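import Mathlib.GroupTheory.Subgroup.Centralizer
import Mathlib.GroupTheory.Sylow

/-!
# The data used about a Sylow 2-subgroup of type M24 modulo centre
-/

set_option autoImplicit false

namespace Cfsg.Agent.Lib.M24Type70

/-- An involution modulo `A`, outside `A`. -/
def InvMod {G : Type*} [Group G] (A : Subgroup G) (x : G) : Prop := x ∉ A ∧ x * x ∈ A

/-- An involution modulo `A`, outside `A` and outside `zA`. -/
def InvMod2 {G : Type*} [Group G] (A : Subgroup G) (z x : G) : Prop :=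
  InvMod A x ∧ z⁻¹ * x ∉ A

/-- The facts about the abelian subgroup of order 64 of such a 2-group. -/
structure Cert {G : Type*} [Group G] (S A : Subgroup G) (z x1 x2 : G) : Prop where
  le : A ≤ S
  normal : ∀ s ∈ S, ∀ a ∈ A, s * a * s⁻¹ ∈ A
  card : Nat.card A = 64
  sq : ∀ a ∈ A, a * a = 1
  uniq : ∀ B ≤ S, IsMulCommutative B → Nat.card B = 64 → B = A
  z_mem : z ∈ S
  x1_mem : x1 ∈ S
  x2_mem : x2 ∈ S
  z_central : ∀ u ∈ S, z * u * z⁻¹ * u⁻¹ ∈ A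
  z_inv : InvMod A z
  x1_inv : InvMod2 A z x1
  x2_inv : InvMod2 A z x2
  w_sq : z⁻¹ * ((x1 * x2) * (x1 * x2)) ∈ A
  cent : ∀ x ∈ S, InvMod A x → Nat.card (A ⊓ Subgroup.centralizer {x} : Subgroup G) = 16
  four : ∀ x ∈ S, InvMod2 A z x →
    Nat.card (A ⊓ Subgroup.centralizer {x, z} : Subgroup G) = 8
  quad : ∀ x ∈ S, InvMod A x → ∀ u ∈ S, x * u * x⁻¹ * u⁻¹ ∈ A →
    ∀ a ∈ A, Commute x (u * a * u⁻¹ * a)
  fix : ∀ x ∈ S, InvMod2 A z x → ∀ u ∈ S, ∀ a ∈ A, Commute z a → Commute x (u * a * u⁻¹ * a)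
  zero : ∀ u ∈ S, ∀ a ∈ A, Commute u (z * a * z⁻¹ * a)
  split : ∀ x ∈ S, InvMod A x → ∃ a ∈ A, (x * a) * (x * a) = 1
  fourGroup : ∀ x ∈ S, InvMod2 A z x → ∀ s ∈ S, x * s * x⁻¹ * s⁻¹ ∈ A →
    s ∈ A ∨ z⁻¹ * s ∈ A ∨ x⁻¹ * s ∈ A ∨ z⁻¹ * (x⁻¹ * s) ∈ A

variable {G G' : Type*} [Group G] [Group G']

theorem Cert.inv_eq {S A : Subgroup G} {z x1 x2 : G} (C : Cert S A z x1 x2) {a : G}
    (ha : a ∈ A) : a⁻¹ = a :=
  inv_eq_of_mul_eq_one_right (C.sq a ha)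

theorem Cert.comm {S A : Subgroup G} {z x1 x2 : G} (C : Cert S A z x1 x2) {a b : G}
    (ha : a ∈ A) (hb : b ∈ A) : Commute a b := by
  have h := C.inv_eq (mul_mem ha hb)
  rw [mul_inv_rev, C.inv_eq ha, C.inv_eq hb] at h
  exact h.symm

/-- Transport along an injective homomorphism. -/
theorem Cert.map {S A : Subgroup G} {z x1 x2 : G} (C : Cert S A z x1 x2) {f : G →* G'}
    (hf : Function.Injective f) :
    Cert (S.map f) (A.map f) (f z) (f x1) (f x2) := by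
  have hm : ∀ {H : Subgroup G} {x : G}, f x ∈ H.map f ↔ x ∈ H := fun {H x} =>
    ⟨fun ⟨y, hy, e⟩ => hf e ▸ hy, fun h => ⟨x, h, rfl⟩⟩
  have hi : ∀ x, InvMod (A.map f) (f x) ↔ InvMod A x := fun x => by
    simp only [InvMod, ← map_mul, hm]
  have hi2 : ∀ x, InvMod2 (A.map f) (f z) (f x) ↔ InvMod2 A z x := fun x => by
    simp only [InvMod2, hi, ← map_inv, ← map_mul, hm]
  have hcen : ∀ s : Set G, A.map f ⊓ Subgroup.centralizer (f '' s) =
      (A ⊓ Subgroup.centralizer s).map f := fun s => by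
    ext y
    constructor
    · rintro ⟨⟨a, ha, rfl⟩, hy⟩
      exact ⟨a, ⟨ha, Subgroup.mem_centralizer_iff.2 fun g hg =>
        hf (by simpa using Subgroup.mem_centralizer_iff.1 hy (f g) ⟨g, hg, rfl⟩)⟩, rfl⟩
    · rintro ⟨a, ⟨ha, ha'⟩, rfl⟩
      exact ⟨hm.2 ha, Subgroup.mem_centralizer_iff.2 fun g ⟨g', hg', e⟩ => by
        rw [← e, ← map_mul, ← map_mul, Subgroup.mem_centralizer_iff.1 ha' g' hg']⟩
  have hcomm : ∀ {a b : G}, Commute a b → Commute (f a) (f b) := fun h => Commute.map h f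
  refine ⟨Subgroup.map_mono C.le, ?_, (Subgroup.card_map_of_injective hf).trans C.card, ?_, ?_,
    hm.2 C.z_mem, hm.2 C.x1_mem, hm.2 C.x2_mem, ?_, (hi z).2 C.z_inv, (hi2 x1).2 C.x1_inv,
    (hi2 x2).2 C.x2_inv, ?_, ?_, ?_, ?_, ?_, ?_, ?_, ?_⟩
  · rintro _ ⟨s, hs, rfl⟩ _ ⟨a, ha, rfl⟩
    simp only [← map_inv, ← map_mul, hm]
    exact C.normal s hs a ha
  · rintro _ ⟨a, ha, rfl⟩
    rw [← map_mul, C.sq a ha, map_one]
  · intro B hB hBc hB64
    have hBe : (B.comap f).map f = B :=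
      Subgroup.map_comap_eq_self (hB.trans (Subgroup.map_le_range f S))
    have hc' : IsMulCommutative (B.comap f) := ⟨⟨fun a b => Subtype.ext (hf (by
      simpa using congrArg Subtype.val (mul_comm' (M := B) ⟨f a, a.2⟩ ⟨f b, b.2⟩)))⟩⟩
    rw [← hBe, C.uniq (B.comap f) ?_ hc' ?_]
    · intro x hx
      exact hm.1 (hB hx)
    · rw [← Subgroup.card_map_of_injective (K := B.comap f) hf, hBe, hB64]
  · rintro _ ⟨u, hu, rfl⟩
    simp only [← map_inv, ← map_mul, hm]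
    exact C.z_central u hu
  · simp only [← map_inv, ← map_mul, hm]
    exact C.w_sq
  · rintro _ ⟨x, hx, rfl⟩ h
    rw [← Set.image_singleton, hcen, Subgroup.card_map_of_injective hf]
    exact C.cent x hx ((hi x).1 h)
  · rintro _ ⟨x, hx, rfl⟩ h
    rw [← Set.image_pair, hcen, Subgroup.card_map_of_injective hf]
    exact C.four x hx ((hi2 x).1 h)
  · rintro _ ⟨x, hx, rfl⟩ h _ ⟨u, hu, rfl⟩ hc _ ⟨a, ha, rfl⟩
    simp only [← map_inv, ← map_mul, hm] at hc ⊢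
    exact hcomm (C.quad x hx ((hi x).1 h) u hu hc a ha)
  · rintro _ ⟨x, hx, rfl⟩ h _ ⟨u, hu, rfl⟩ _ ⟨a, ha, rfl⟩ hza
    simp only [← map_inv, ← map_mul]
    exact hcomm (C.fix x hx ((hi2 x).1 h) u hu a ha (hf (by rw [map_mul, map_mul]; exact hza)))
  · rintro _ ⟨u, hu, rfl⟩ _ ⟨a, ha, rfl⟩
    simp only [← map_inv, ← map_mul]
    exact hcomm (C.zero u hu a ha)
  · rintro _ ⟨x, hx, rfl⟩ h
    obtain ⟨a, ha, e⟩ := C.split x hx ((hi x).1 h)
    exact ⟨f a, hm.2 ha, by rw [← map_mul, ← map_mul, e, map_one]⟩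
  · rintro _ ⟨x, hx, rfl⟩ h _ ⟨s, hs, rfl⟩ hc
    simp only [← map_inv, ← map_mul, hm] at hc ⊢
    exact C.fourGroup x hx ((hi2 x).1 h) s hs hc

end Cfsg.Agent.Lib.M24Type70
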