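import Cfsg.Agent.Lib.M24SylowQuot.Checks

/-!
# Boolean checks on the action of a Sylow 2-subgroup of M24 modulo centre on its abelian 64
-/

set_option autoImplicit false
set_option maxRecDepth 8000

namespace Cfsg.Agent.Lib.M24Type70

open Cfsg.Agent.Lib.Computation Cfsg.Agent.Lib.Golay Cfsg.Agent.Lib.FusionAlperin.MathieuCert
open Cfsg.Agent.Lib.M24SylowQuot

/-- Codes of representatives of the eight cosets, each with the code of its inverse. -/
def R : List (ℕ × ℕ) := [
  (984818244535754528103549039458486304, 984818244535754528103549039458486304),
  (3953453417292873167806718508683824, 803795066710026232372281516940274359),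
  (3940711789932349620595873219812546, 295455371692021994241710915251274423),
  (111890472315970765914961940458082952, 735361033369442071957755400427003123),
  (4205435880188087466554668607842391, 17704647469795741077214354756798007),
  (974960228305646497594917474032538675, 974960228305646497594917474032538675),
  (112568980404132704887040868254793952, 901525557922039248246453243920965248),
  (11971789224543649390143024941892821, 305065430505659109483903148077075543)
]

/-- The representative central modulo the abelian subgroup. -/
def zR : ℕ × ℕ := R.getD 1 (0, 0)

/-- The first reflection. -/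
def x1R : ℕ × ℕ := R.getD 2 (0, 0)

/-- The second reflection. -/
def x2R : ℕ × ℕ := R.getD 4 (0, 0)

/-- The codes of the abelian subgroup. -/
abbrev LA' : List ℕ := Cfsg.Agent.Lib.M24SylowQuot.Data.elsA.map Prod.fst

/-- Membership of a code in the abelian subgroup. -/
def inA (t : List ℕ) (c : ℕ) : Bool := forceNat (canon c) fun d => t.any fun a => Nat.beq d a

/-- Involution modulo the subgroup, outside it. -/
def invB (t : List ℕ) (r : ℕ × ℕ) : Bool := !inA t r.1 && inA t (mulP 24 5 r.1 r.1)

/-- Involution modulo the subgroup, outside the central coset as well. -/
def invB2 (t : List ℕ) (r : ℕ × ℕ) : Bool := invB t r && !inA t (mulP 24 5 zR.2 r.1)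

/-- The commutator of two representatives lies in the subgroup. -/
def comA (t : List ℕ) (x y : ℕ × ℕ) : Bool :=
  inA t (mulP 24 5 (mulP 24 5 x.1 y.1) (mulP 24 5 x.2 y.2))

/-- The product of a conjugate with the original. -/
def cjB (u : ℕ × ℕ) (a : ℕ) : ℕ := mulP 24 5 (mulP 24 5 (mulP 24 5 u.1 a) u.2) a

/-- The representatives and their inverses. -/
def repOk70 : Bool :=
  let tP := buildTree 12 (elsP.map Prod.fst)
  R.all fun r => tP.has r.1 && tP.has r.2 && Nat.beq (canon (mulP 24 5 r.1 r.2)) oneCode

/-- The representatives cover. -/
def coverOk : Bool :=
  let t := LA'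
  (elsP.map Prod.fst).all fun c => R.any fun r => inA t (mulP 24 5 r.2 c)

/-- The subgroup is normal. -/
def normalOk : Bool :=
  let t := LA'
  R.all fun r => LA'.all fun a => inA t (mulP 24 5 (mulP 24 5 r.1 a) r.2)

/-- The dihedral relations. -/
def dihOk : Bool :=
  let t := LA'
  let w := mulP 24 5 x1R.1 x2R.1
  (R.all fun r => comA t zR r) && invB t zR && invB2 t x1R && invB2 t x2R &&
    inA t (mulP 24 5 zR.2 (mulP 24 5 w w))

/-- Centralisers of the involutions. -/
def centOk : Bool :=
  let t := LA'
  R.all fun r => !invB t r || Nat.beq (LA'.countP fun a => commB r.1 a) 32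

/-- Centralisers of the four groups. -/
def fourOk : Bool :=
  let t := LA'
  R.all fun r => !invB2 t r || Nat.beq (LA'.countP fun a => commB r.1 a && commB zR.1 a) 16

/-- Commuting involutions act quadratically. -/
def quadOk : Bool :=
  let t := LA'
  R.all fun x => !invB t x || R.all fun u => !comA t x u || LA'.all fun a => commB x.1 (cjB u a)

/-- Commutators of the fixed points of the central involution. -/
def fixOk : Bool :=
  let t := LA'
  R.all fun x => !invB2 t x || R.all fun u => LA'.all fun a => !commB zR.1 a || commB x.1 (cjB u a)

/-- Commutators with the central involution. -/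
def zeroOk : Bool :=
  R.all fun u => LA'.all fun a => commB u.1 (cjB zR a)

/-- Involutions in the cosets. -/
def splitOk : Bool :=
  let t := LA'
  R.all fun x => !invB t x || LA'.any fun a =>
    congB (mulP 24 5 (mulP 24 5 x.1 a) (mulP 24 5 x.1 a)) oneCode

/-- Elements commuting with a reflection modulo the subgroup. -/
def fourGroupOk : Bool :=
  let t := LA'
  R.all fun x => !invB2 t x || R.all fun s => !comA t x s || inA t s.1 ||
    inA t (mulP 24 5 zR.2 s.1) || inA t (mulP 24 5 x.2 s.1) ||
    inA t (mulP 24 5 zR.2 (mulP 24 5 x.2 s.1))

theorem repOk70_true : repOk70 = true := by decide +kernel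

theorem coverOk_true : coverOk = true := by decide +kernel

theorem normalOk_true : normalOk = true := by decide +kernel

theorem dihOk_true : dihOk = true := by decide +kernel

theorem centOk_true : centOk = true := by decide +kernel

theorem fourOk_true : fourOk = true := by decide +kernel

theorem quadOk_true : quadOk = true := by decide +kernel

theorem fixOk_true : fixOk = true := by decide +kernel

theorem zeroOk_true : zeroOk = true := by decide +kernel

theorem splitOk_true : splitOk = true := by decide +kernel

theorem fourGroupOk_true : fourGroupOk = true := by decide +kernel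

end Cfsg.Agent.Lib.M24Type70
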