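import Cfsg.Agent.Lib.M24Type70.Cert
import Cfsg.Agent.Lib.Fusion.Alperin

/-!
# The configuration behind a fused subgroup cannot occur

`R` is a subgroup of `P`, `g` normalizes it, `g² ∈ R·C(R)`, `g` does not keep `R ⊓ A` and the
products of `g` with the elements of `A` normalizing `R` are of odd order modulo `R·C(R)`.
-/

set_option autoImplicit false

namespace Cfsg.Agent.Lib.M24Type70

open Cfsg.Agent.Lib.Fusion.Alperin Subgroup
open scoped Pointwise

variable {G : Type*} [Group G] [Finite G] [Fact (Nat.Prime 2)]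

theorem conjS_pow_fix {w : G} {U : Subgroup G} {m : ℕ} (hm : Odd m)
    (h2 : conjS (w * w) U = U) (hmU : conjS (w ^ m) U = U) : conjS w U = U := by
  obtain ⟨k, rfl⟩ := hm
  refine conjS_eq_of_mem_normalizer ?_
  have h1 := mem_normalizer_of_conjS_eq hmU
  have h3 := pow_mem (mem_normalizer_of_conjS_eq h2) k
  rw [← pow_two, ← pow_mul] at h3
  simpa [pow_succ'] using mul_mem h1 (inv_mem h3)

/-- The configuration is contradictory. -/
theorem final_false {P : Sylow 2 G} {A : Subgroup G} {z x1 x2 : G}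
    (C : Cert (P : Subgroup G) A z x1 x2) {R : Subgroup G} (hRP : R ≤ P) (hAR : ¬ A ≤ R) {g : G}
    (hg : g ∈ normalizer (R : Set G)) (hg2 : g * g ∈ R ⊔ centralizer (R : Set G))
    (hgB : conjS g (R ⊓ A) ≠ R ⊓ A)
    (hodd : ∀ a ∈ A, a ∈ normalizer (R : Set G) → a ∉ R →
      ∃ m : ℕ, Odd m ∧ (a * g) ^ m ∈ R ⊔ centralizer (R : Set G)) : False := by
  classical
  set Q := R ⊔ centralizer (R : Set G) with hQdef
  set B := R ⊓ A with hBdef
  set B' := conjS g B with hB'def
  have hnR : ∀ {n : G}, n ∈ normalizer (R : Set G) → ∀ {x : G}, x ∈ R → n * x * n⁻¹ ∈ R :=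
    fun hn => fun hx => (mem_normalizer_iff.1 hn _).1 hx
  -- elements of `Q` act as elements of `R`
  have hQ : ∀ q ∈ Q, ∃ r ∈ R, ∀ x ∈ R, q * x * q⁻¹ = r * x * r⁻¹ := by
    intro q hq
    let M : Subgroup G :=
      { carrier := {q | ∃ r ∈ R, ∀ x ∈ R, q * x * q⁻¹ = r * x * r⁻¹}
        one_mem' := ⟨1, one_mem _, fun _ _ => rfl⟩
        mul_mem' := by
          rintro p q ⟨r, hr, hp⟩ ⟨s, hs, hq⟩
          refine ⟨r * s, mul_mem hr hs, fun x hx => ?_⟩
          have hy : s * x * s⁻¹ ∈ R := mul_mem (mul_mem hs hx) (inv_mem hs)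
          calc p * q * x * (p * q)⁻¹ = p * (q * x * q⁻¹) * p⁻¹ := by group
            _ = p * (s * x * s⁻¹) * p⁻¹ := by rw [hq x hx]
            _ = r * (s * x * s⁻¹) * r⁻¹ := hp _ hy
            _ = _ := by group
        inv_mem' := by
          rintro p ⟨r, hr, hp⟩
          refine ⟨r⁻¹, inv_mem hr, fun x hx => ?_⟩
          have hy : r⁻¹ * x * r ∈ R := mul_mem (mul_mem (inv_mem hr) hx) hr
          have := hp _ hy
          calc p⁻¹ * x * p⁻¹⁻¹ = p⁻¹ * (r * (r⁻¹ * x * r) * r⁻¹) * p := by group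
            _ = p⁻¹ * (p * (r⁻¹ * x * r) * p⁻¹) * p := by rw [this]
            _ = _ := by group }
    have h1 : R ≤ M := fun r hr => ⟨r, hr, fun _ _ => rfl⟩
    have h2 : centralizer (R : Set G) ≤ M := fun c hc => ⟨1, one_mem _, fun x hx => by
      rw [← mem_centralizer_iff.1 hc x hx]; group⟩
    exact (sup_le h1 h2) hq
  have hQfix : ∀ X : Subgroup G, X ≤ R → (∀ r ∈ R, conjS r X = X) → ∀ q ∈ Q, conjS q X = X := by
    intro X hX hRX q hq
    obtain ⟨r, hr, h⟩ := hQ q hq
    refine eq_of_le_of_card_ge ?_ (card_conjS q X).ge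
    rintro _ ⟨x, hx, rfl⟩
    show q * x * q⁻¹ ∈ X
    rw [h x (hX hx), ← hRX r hr]
    exact conj_mem_conjS hx
  -- `B` and `B'`
  have hRA : ∀ r ∈ R, conjS r A = A := fun r hr => eq_of_le_of_card_ge
    (fun x hx => by obtain ⟨a, ha, rfl⟩ := hx; exact C.normal r (hRP hr) a ha) (card_conjS r A).ge
  have hBR : B ≤ R := inf_le_left
  have hRB : ∀ r ∈ R, conjS r B = B := fun r hr => eq_of_le_of_card_ge (by
    rintro _ ⟨x, hx, rfl⟩
    exact ⟨R.mul_mem (R.mul_mem hr hx.1) (R.inv_mem hr), C.normal r (hRP hr) x hx.2⟩) (card_conjS r B).ge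
  have hB'R : B' ≤ R := by
    rintro _ ⟨x, hx, rfl⟩
    exact hnR hg (hBR hx)
  have hRB' : ∀ r ∈ R, conjS r B' = B' := fun r hr => by
    rw [hB'def, ← conjS_mul, show r * g = g * (g⁻¹ * r * g) by group, conjS_mul,
      hRB _ (by simpa using hnR (inv_mem hg) hr)]
  have hgB' : conjS g B' = B := by
    rw [hB'def, ← conjS_mul]
    exact hQfix B hBR hRB _ hg2
  have haB : ∀ a ∈ A, conjS a B = B := fun a ha => eq_of_le_of_card_ge (by
    rintro _ ⟨x, hx, rfl⟩
    show a * x * a⁻¹ ∈ B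
    rw [(C.comm ha hx.2).eq, mul_inv_cancel_right]
    exact hx) (card_conjS a B).ge
  have hcm : ∀ a ∈ A, a ∈ normalizer (R : Set G) → ∀ r ∈ R, a * r * a⁻¹ * r⁻¹ ∈ B := by
    intro a ha haN r hr
    refine ⟨R.mul_mem (hnR haN hr) (R.inv_mem hr), ?_⟩
    rw [show a * r * a⁻¹ * r⁻¹ = a * (r * a⁻¹ * r⁻¹) by group]
    exact mul_mem ha (C.normal r (hRP hr) _ (inv_mem ha))
  set M := B ⊔ B' with hMdef
  have hMR : M ≤ R := sup_le hBR hB'R
  have hgM : conjS g M = M := by
    have e : conjS g M = conjS g B ⊔ conjS g B' := Subgroup.map_sup B B' _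
    rw [e, hgB', ← hB'def, sup_comm]
  have haM : ∀ a ∈ A, a ∈ normalizer (R : Set G) → conjS a M = M := by
    intro a ha haN
    refine eq_of_le_of_card_ge ?_ (card_conjS a M).ge
    rw [show conjS a M = conjS a B ⊔ conjS a B' from Subgroup.map_sup B B' _, haB a ha]
    refine sup_le le_sup_left ?_
    rintro _ ⟨y, hy, rfl⟩
    show a * y * a⁻¹ ∈ M
    have e : a * y * a⁻¹ = (a * y * a⁻¹ * y⁻¹) * y := by group
    rw [e]
    exact mul_mem (le_sup_left (b := B') (hcm a ha haN y (hB'R hy))) (le_sup_right (a := B) hy)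
  have hRM : ∀ r ∈ R, conjS r M = M := fun r hr => by
    rw [show conjS r M = conjS r B ⊔ conjS r B' from Subgroup.map_sup B B' _, hRB r hr, hRB' r hr]
  -- an element of `A` outside `R` normalizing `R`
  have hgrow : ∀ X : Subgroup G, X ≤ A → ¬ X ≤ R → (∀ r ∈ R, conjS r X = X) →
      ∃ a ∈ X, a ∈ normalizer (R : Set G) ∧ a ∉ R := by
    intro X hXA hX hRX
    have hRN : R ≤ normalizer (X : Set G) := fun r hr => mem_normalizer_of_conjS_eq (hRX r hr)
    have hsup : ((R ⊔ X : Subgroup G) : Set G) = (R : Set G) * (X : Set G) := by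
      exact coe_mul_of_left_le_normalizer_right R X hRN
    have hlt : R < R ⊔ X := lt_of_le_not_ge le_sup_left fun h => hX (le_sup_right.trans h)
    have h1 := lt_inf_normalizer (P.2.to_le (sup_le hRP (hXA.trans C.le))) hlt
    obtain ⟨y, ⟨hyRA, hyN⟩, hyR⟩ := SetLike.exists_of_lt h1
    have hy' : y ∈ ((R ⊔ X : Subgroup G) : Set G) := hyRA
    rw [hsup] at hy'
    obtain ⟨r, hr, a, ha, rfl⟩ := hy'
    exact ⟨a, ha, by simpa using mul_mem (inv_mem (le_normalizer hr)) hyN,
      fun haR => hyR (mul_mem hr haR)⟩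
  obtain ⟨a0, ha0, ha0N, ha0R⟩ := hgrow A le_rfl hAR hRA
  -- `B'` commutes with `B`
  have hBcomm : ∀ x ∈ B, ∀ y ∈ B, Commute x y := fun x hx y hy => C.comm hx.2 hy.2
  have hB'comm : ∀ x ∈ B', ∀ y ∈ B', Commute x y := by
    rintro _ ⟨x, hx, rfl⟩ _ ⟨y, hy, rfl⟩
    exact (hBcomm x hx y hy).map _
  have hB'sq : ∀ y ∈ B', y * y = 1 := by
    rintro _ ⟨x, hx, rfl⟩
    rw [← map_mul, C.sq x hx.2, map_one]
  have hwB : ∀ a ∈ A, conjS (a * g) B = conjS a B' := fun a _ => by rw [conjS_mul, ← hB'def]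
  have hBB' : ∀ x ∈ B, ∀ y ∈ B', Commute x y := by
    set Z := M ⊓ centralizer (M : Set G) with hZdef
    have hnorm : ∀ n, conjS n M = M → conjS n Z = Z := by
      intro n hn
      refine eq_of_le_of_card_ge ?_ (card_conjS n Z).ge
      rintro _ ⟨x, ⟨hx, hx'⟩, rfl⟩
      refine ⟨hn.le (conj_mem_conjS hx), mem_centralizer_iff.2 fun m hm => ?_⟩
      have hm' : n⁻¹ * m * n ∈ M := mem_conjS.1 (hn.ge hm)
      have h := mem_centralizer_iff.1 hx' _ hm'
      show m * (n * x * n⁻¹) = n * x * n⁻¹ * m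
      calc m * (n * x * n⁻¹) = n * (n⁻¹ * m * n * x) * n⁻¹ := by group
        _ = n * (x * (n⁻¹ * m * n)) * n⁻¹ := by rw [h]
        _ = _ := by group
    have hcZ : ∀ y ∈ B', a0 * y * a0⁻¹ * y⁻¹ ∈ Z := by
      intro y hy
      have hc := hcm a0 ha0 ha0N y (hB'R hy)
      refine ⟨le_sup_left (b := B') hc, ?_⟩
      set c := a0 * y * a0⁻¹ * y⁻¹ with hcdef
      suffices h : M ≤ centralizer ({c} : Set G) from mem_centralizer_iff.2 fun m hm =>
        mem_centralizer_singleton_iff.1 (h hm)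
      refine sup_le (fun b hb => mem_centralizer_singleton_iff.2 (hBcomm b hb c hc).eq) ?_
      intro y' hy'
      rw [mem_centralizer_singleton_iff]
      by_cases hy'A : y' ∈ A
      · exact (C.comm hy'A hc.2).eq
      have h := C.quad y' (hRP (hB'R hy')) ⟨hy'A, by rw [hB'sq y' hy']; exact one_mem _⟩ y
        (hRP (hB'R hy)) (by
          rw [(hB'comm y' hy' y hy).eq, mul_inv_cancel_right, mul_inv_cancel]; exact one_mem _) a0 ha0
      have hce : c = (y * a0 * y⁻¹ * a0)⁻¹ := by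
        rw [hcdef]; simp only [mul_inv_rev, inv_inv, C.inv_eq ha0]; group
      rw [hce]
      exact h.inv_right.eq
    have hU' : conjS a0 (B' ⊔ Z) = B' ⊔ Z := by
      refine eq_of_le_of_card_ge ?_ (card_conjS _ _).ge
      rw [show conjS a0 (B' ⊔ Z) = conjS a0 B' ⊔ conjS a0 Z from Subgroup.map_sup B' Z _,
        hnorm a0 (haM a0 ha0 ha0N)]
      refine sup_le ?_ le_sup_right
      rintro _ ⟨y, hy, rfl⟩
      show a0 * y * a0⁻¹ ∈ B' ⊔ Z
      rw [show a0 * y * a0⁻¹ = (a0 * y * a0⁻¹ * y⁻¹) * y by group]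
      exact mul_mem (le_sup_right (a := B') (hcZ y hy)) (le_sup_left (b := Z) hy)
    have hgU : conjS g (B ⊔ Z) = B' ⊔ Z := by
      rw [show conjS g (B ⊔ Z) = conjS g B ⊔ conjS g Z from Subgroup.map_sup B Z _, ← hB'def,
        hnorm g hgM]
    have hgU' : conjS g (B' ⊔ Z) = B ⊔ Z := by
      rw [show conjS g (B' ⊔ Z) = conjS g B' ⊔ conjS g Z from Subgroup.map_sup B' Z _, hgB',
        hnorm g hgM]
    have haU : conjS a0 (B ⊔ Z) = B ⊔ Z := by
      rw [show conjS a0 (B ⊔ Z) = conjS a0 B ⊔ conjS a0 Z from Subgroup.map_sup B Z _, haB a0 ha0,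
        hnorm a0 (haM a0 ha0 ha0N)]
    have hwU : conjS (a0 * g) (B ⊔ Z) = B' ⊔ Z := by rw [conjS_mul, hgU, hU']
    have hwU' : conjS (a0 * g) (B' ⊔ Z) = B ⊔ Z := by rw [conjS_mul, hgU', haU]
    obtain ⟨m, hm, hmQ⟩ := hodd a0 ha0 ha0N ha0R
    have hUR : B ⊔ Z ≤ R := sup_le hBR (inf_le_left.trans hMR)
    have heq : conjS (a0 * g) (B ⊔ Z) = B ⊔ Z := by
      refine conjS_pow_fix hm (by rw [conjS_mul, hwU, hwU']) (hQfix _ hUR (fun r hr => ?_) _ hmQ)
      rw [show conjS r (B ⊔ Z) = conjS r B ⊔ conjS r Z from Subgroup.map_sup B Z _, hRB r hr,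
        hnorm r (hRM r hr)]
    intro x hx y hy
    have hyU : y ∈ B ⊔ Z := by
      rw [← heq, hwU]; exact le_sup_left (b := Z) hy
    have : B ⊔ Z ≤ centralizer ({x} : Set G) :=
      sup_le (fun b hb => mem_centralizer_singleton_iff.2 (hBcomm b hb x hx).eq)
        (fun w hw => mem_centralizer_singleton_iff.2
          (mem_centralizer_iff.1 hw.2 x (le_sup_left (b := B') hx)).symm)
    exact (mem_centralizer_singleton_iff.1 (this hyU)).symm
  -- no element of `A` outside `R` fixes `B'`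
  have hfree : ∀ a ∈ A, a ∈ normalizer (R : Set G) → a ∉ R → conjS a B' ≠ B' := by
    intro a ha haN haR h
    obtain ⟨m, hm, hmQ⟩ := hodd a ha haN haR
    have h1 : conjS (a * g) B = B' := by rw [hwB a ha, h]
    have h2 : conjS (a * g) B' = B := by rw [conjS_mul, hgB', haB a ha]
    have := conjS_pow_fix hm (by rw [conjS_mul, h1, h2]) (hQfix B hBR hRB _ hmQ)
    exact hgB (h1.symm.trans this)
  have hfix : ∀ a, (∀ y ∈ B', Commute a y) → conjS a B' = B' := fun a h =>
    eq_of_le_of_card_ge (by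
      rintro _ ⟨y, hy, rfl⟩
      show a * y * a⁻¹ ∈ B'
      rw [(h y hy).eq, mul_inv_cancel_right]
      exact hy) (card_conjS _ _).ge
  have hcentric : A ⊓ centralizer (B' : Set G) ≤ B := by
    by_contra h
    have h' : ¬ A ⊓ centralizer (B' : Set G) ≤ R := fun hle => h (le_inf hle inf_le_left)
    obtain ⟨a, ⟨ha, haC⟩, haN, haR⟩ := hgrow _ inf_le_left h' fun r hr =>
      eq_of_le_of_card_ge (by
        rintro _ ⟨x, ⟨hx, hxC⟩, rfl⟩
        refine ⟨C.normal r (hRP hr) x hx, mem_centralizer_iff.2 fun y hy => ?_⟩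
        have hy' : r⁻¹ * y * r ∈ B' := mem_conjS.1 ((hRB' r hr).ge hy)
        have h := mem_centralizer_iff.1 hxC _ hy'
        show y * (r * x * r⁻¹) = r * x * r⁻¹ * y
        calc y * (r * x * r⁻¹) = r * (r⁻¹ * y * r * x) * r⁻¹ := by group
          _ = r * (x * (r⁻¹ * y * r)) * r⁻¹ := by rw [h]
          _ = _ := by group) (card_conjS _ _).ge
    exact hfree a ha haN haR (hfix a fun y hy => (mem_centralizer_iff.1 haC y hy).symm)
  have hcardB' : Nat.card B' = Nat.card B := card_conjS g B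
  have hB'A : ¬ B' ≤ A := fun h => hgB (eq_of_le_of_card_ge (le_inf hB'R h) hcardB'.ge)
  obtain ⟨x, hx, hxA⟩ := SetLike.not_le_iff_exists.1 hB'A
  have hxI : InvMod A x := ⟨hxA, by rw [hB'sq x hx]; exact one_mem _⟩
  have hBC : ∀ {a}, a ∈ B → ∀ y ∈ B', Commute a y := fun ha y hy => hBB' _ ha y hy
  by_cases hcase : ∀ y ∈ B', y ∈ A ∨ x⁻¹ * y ∈ A
  · -- `B' ≤ A⟨x⟩`
    have hB : B = A ⊓ centralizer ({x} : Set G) := by
      refine le_antisymm (fun b hb => ⟨hb.2, mem_centralizer_singleton_iff.2 (hBC hb x hx).eq⟩) ?_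
      rintro a ⟨ha, hax⟩
      replace hax : Commute a x := mem_centralizer_singleton_iff.1 hax
      refine hcentric ⟨ha, mem_centralizer_iff.2 fun y hy => ?_⟩
      rcases hcase y hy with hyA | hyA
      · exact (C.comm hyA ha).eq
      · have h := (show Commute a x from hax).mul_right (C.comm ha hyA)
        rw [mul_inv_cancel_left] at h
        exact h.eq.symm
    have hB16 : Nat.card B = 16 := by rw [hB]; exact C.cent x (hRP (hB'R hx)) hxI
    have hxr : ∀ r ∈ R, x * r * x⁻¹ * r⁻¹ ∈ A := by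
      intro r hr
      have hy : r * x⁻¹ * r⁻¹ ∈ B' := (hRB' r hr).le (conj_mem_conjS (inv_mem hx))
      rcases hcase _ (mul_mem hx hy) with h | h
      · simpa [mul_assoc] using h
      · exfalso
        rw [inv_mul_cancel_left] at h
        have := C.normal r⁻¹ (inv_mem (hRP hr)) _ h
        rw [show r⁻¹ * (r * x⁻¹ * r⁻¹) * r⁻¹⁻¹ = x⁻¹ by group] at this
        exact hxA (inv_mem_iff.1 this)
    have hAN : ∀ a ∈ A, a ∈ normalizer (R : Set G) := by
      intro a ha
      refine mem_normalizer_of_conjS_eq (eq_of_le_of_card_ge ?_ (card_conjS _ _).ge)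
      rintro _ ⟨r, hr, rfl⟩
      show a * r * a⁻¹ ∈ R
      have h := C.quad x (hRP (hB'R hx)) hxI r (hRP hr) (hxr r hr) a ha
      have hb : r * a * r⁻¹ * a ∈ B := by
        rw [hB]
        exact ⟨mul_mem (C.normal r (hRP hr) a ha) ha, mem_centralizer_singleton_iff.2 h.eq.symm⟩
      have e : a * r * a⁻¹ = (r * a * r⁻¹ * a)⁻¹⁻¹ * r := by
        rw [inv_inv, C.inv_eq ha]
        have h' := (C.comm ha (C.normal r (hRP hr) a ha)).eq
        rw [← h']; group
      rw [e, inv_inv]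
      exact mul_mem (hBR hb) hr
    let φ : G → G := fun a => a * (x * a * x⁻¹)
    have hφB : ∀ a ∈ A, φ a ∈ B := by
      intro a ha
      rw [hB]
      refine ⟨mul_mem ha (C.normal x (hRP (hB'R hx)) a ha), mem_centralizer_singleton_iff.2 ?_⟩
      have h := C.quad x (hRP (hB'R hx)) hxI x (hRP (hB'R hx)) (by simp) a ha
      simp only [φ]
      rw [(C.comm ha (C.normal x (hRP (hB'R hx)) a ha)).eq]
      exact h.eq.symm
    have hφmul : ∀ a ∈ A, ∀ b ∈ A, φ (a * b) = φ a * φ b := by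
      intro a ha b hb
      simp only [φ]
      rw [show x * (a * b) * x⁻¹ = (x * a * x⁻¹) * (x * b * x⁻¹) by group]
      exact (C.comm hb (C.normal x (hRP (hB'R hx)) a ha)).mul_mul_mul_comm a (x * b * x⁻¹)
    have hD : (B'.subgroupOf B).index = 2 := by
      have hcard : Nat.card B' = 16 := hcardB'.trans hB16
      have hDcard : Nat.card (B' ⊓ A : Subgroup G) = 8 := by
        have hlt : Nat.card (B' ⊓ A : Subgroup G) * 2 = Nat.card B' := by
          have h2 : ((B' ⊓ A).subgroupOf B').index = 2 := by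
            rw [Subgroup.index_eq_two_iff]
            refine ⟨⟨x, hx⟩, fun y => ?_⟩
            rcases hcase y y.2 with h | h
            · right
              refine ⟨mem_subgroupOf.2 ⟨y.2, h⟩, fun hyx => hxA ?_⟩
              have h' := (mem_subgroupOf.1 hyx).2
              simpa using mul_mem (inv_mem h) h'
            · left
              have hyx : (y : G) * x ∈ A := by
                have hc : (x : G)⁻¹ = x := inv_eq_of_mul_eq_one_right (hB'sq x hx)
                rw [(hB'comm y y.2 x hx).eq]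
                rwa [hc] at h
              exact ⟨mem_subgroupOf.2 ⟨mul_mem y.2 hx, hyx⟩, fun hy => hxA (by
                simpa using A.mul_mem (A.inv_mem (mem_subgroupOf.1 hy).2) hyx)⟩
          rw [← h2, ← Nat.card_congr (subgroupOfEquivOfLe (inf_le_left : B' ⊓ A ≤ B')).toEquiv,
            card_mul_index]
        omega
      have he : B' ⊓ A = B' ⊓ B := le_antisymm
        (fun y hy => ⟨hy.1, hB'R hy.1, hy.2⟩) (fun y hy => ⟨hy.1, hy.2.2⟩)
      have := card_mul_index (B'.subgroupOf B)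
      rw [← inf_subgroupOf_right, Nat.card_congr (subgroupOfEquivOfLe (inf_le_right : B' ⊓ B ≤ B)).toEquiv,
        ← he, hDcard, hB16] at this
      rw [← inf_subgroupOf_right]
      rw [← he]
      omega
    have hgood : ∀ a ∈ A, a ∉ B → φ a ∈ B' → False := by
      intro a ha haB' hφ
      refine hfree a ha (hAN a ha) (fun haR => haB' ⟨haR, ha⟩) (eq_of_le_of_card_ge ?_ (card_conjS _ _).ge)
      rintro _ ⟨y, hy, rfl⟩
      show a * y * a⁻¹ ∈ B'
      rcases hcase y hy with hyA | hyA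
      · rw [(C.comm ha hyA).eq, mul_inv_cancel_right]; exact hy
      · have e : a * y * a⁻¹ = φ a * y := by
          simp only [φ, C.inv_eq ha]
          calc a * y * a = a * x * ((x⁻¹ * y) * a) := by group
            _ = a * x * (a * (x⁻¹ * y)) := by rw [(C.comm hyA ha).eq]
            _ = _ := by group
        rw [e]; exact mul_mem hφ hy
    obtain ⟨a, ha, haB'⟩ : ∃ a ∈ A, a ∉ B := ⟨a0, ha0, fun h => ha0R h.1⟩
    obtain ⟨b, hb, hbB, habB⟩ : ∃ b ∈ A, b ∉ B ∧ a * b ∉ B := by
      by_contra hcon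
      push Not at hcon
      have h64 := C.card
      have hsub : (A : Set G) ⊆ (B : Set G) ∪ (fun y => a⁻¹ * y) '' (B : Set G) := fun y hy => by
        by_cases hyB : y ∈ B
        · exact Or.inl hyB
        · exact Or.inr ⟨a * y, hcon y hy hyB, by group⟩
      have := (Set.ncard_le_ncard hsub (Set.toFinite _)).trans (Set.ncard_union_le _ _)
      have h2 := Set.ncard_image_le (f := fun y => a⁻¹ * y) (Set.toFinite (B : Set G))
      have eA : (A : Set G).ncard = Nat.card A := (Nat.card_coe_set_eq _).symm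
      have eB : (B : Set G).ncard = Nat.card B := (Nat.card_coe_set_eq _).symm
      omega
    have key := mul_mem_iff_of_index_two hD (a := ⟨φ a, hφB a ha⟩) (b := ⟨φ b, hφB b hb⟩)
    simp only [mem_subgroupOf, Subgroup.coe_mul, ← hφmul a ha b hb] at key
    by_cases h1 : φ a ∈ B'
    · exact hgood a ha haB' h1
    by_cases h2 : φ b ∈ B'
    · exact hgood b hb hbB h2
    exact hgood _ (mul_mem ha hb) habB (key.2 (iff_of_false h1 h2))
  · -- the centre modulo `A` is met
    push Not at hcase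
    obtain ⟨y, hy, hyA, hxy⟩ := hcase
    obtain ⟨x, hx, hxI2, v, hv, hvz⟩ : ∃ x ∈ B', InvMod2 A z x ∧ ∃ v ∈ B', z⁻¹ * v ∈ A := by
      by_cases hxz : z⁻¹ * x ∈ A
      · refine ⟨y, hy, ⟨⟨hyA, by rw [hB'sq y hy]; exact one_mem _⟩, fun h => hxy ?_⟩, x, hx, hxz⟩
        simpa using mul_mem (inv_mem hxz) h
      · have hI2 : InvMod2 A z x := ⟨hxI, hxz⟩
        rcases C.fourGroup x (hRP (hB'R hx)) hI2 y (hRP (hB'R hy))
          (by rw [(hB'comm x hx y hy).eq, mul_inv_cancel_right, mul_inv_cancel]; exact one_mem _)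
          with h | h | h | h
        · exact absurd h hyA
        · exact ⟨x, hx, hI2, y, hy, h⟩
        · exact absurd h hxy
        · exact ⟨x, hx, hI2, x⁻¹ * y, mul_mem (inv_mem hx) hy, h⟩
    have hxP := hRP (hB'R hx)
    have hcz : ∀ {a}, a ∈ A → (Commute a z ↔ Commute a v) := fun {a} ha => by
      refine ⟨fun h => ?_, fun h => ?_⟩
      · simpa using h.mul_right (C.comm ha hvz)
      · simpa [mul_assoc] using h.mul_right (C.comm ha (inv_mem hvz))
    have hmemB : ∀ {a}, a ∈ A → Commute a x → Commute a z → a ∈ B := fun {a} ha hax haz => by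
      refine hcentric ⟨ha, mem_centralizer_iff.2 fun y hy => ?_⟩
      show y * a = a * y
      rcases C.fourGroup x hxP hxI2 y (hRP (hB'R hy))
        (by rw [(hB'comm x hx y hy).eq, mul_inv_cancel_right, mul_inv_cancel]; exact one_mem _)
        with h | h | h | h
      · exact (C.comm h ha).eq
      · simpa using (haz.mul_right (C.comm ha h)).eq.symm
      · simpa using (hax.mul_right (C.comm ha h)).eq.symm
      · simpa using (hax.mul_right (haz.mul_right (C.comm ha h))).eq.symm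
    have hzc : Nat.card (A ⊓ centralizer ({z} : Set G) : Subgroup G) = 16 := C.cent z C.z_mem C.z_inv
    have hB8 : Nat.card B ≤ 8 := by
      rw [← C.four x hxP hxI2]
      refine card_le_of_le fun b hb => ⟨hb.2, mem_centralizer_iff.2 ?_⟩
      simp only [Set.mem_insert_iff, Set.mem_singleton_iff, forall_eq_or_imp, forall_eq]
      exact ⟨(hBC hb x hx).eq.symm, ((hcz hb.2).2 (hBC hb v hv)).eq.symm⟩
    obtain ⟨a, ⟨ha, haz⟩, haB'⟩ : ∃ a ∈ A ⊓ centralizer ({z} : Set G), a ∉ B :=
      SetLike.not_le_iff_exists.1 fun h => by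
        have := card_le_of_le h
        omega
    have haz' : Commute a z := mem_centralizer_singleton_iff.1 haz
    have hcB : ∀ r ∈ R, r * a * r⁻¹ * a ∈ B := by
      intro r hr
      have hA' := C.normal r (hRP hr) a ha
      refine hmemB (mul_mem hA' ha) (C.fix x hxP hxI2 r (hRP hr) a ha haz'.symm).symm ?_
      refine Commute.mul_left ?_ haz'
      have hd := C.z_central r⁻¹ (inv_mem (hRP hr))
      have hd' : Commute a (z * r⁻¹ * z⁻¹ * r⁻¹⁻¹) := C.comm ha hd
      have h1 : Commute a (r⁻¹ * z * r) := by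
        have h2 := (hd'.inv_right).mul_right haz'
        rwa [show (z * r⁻¹ * z⁻¹ * r⁻¹⁻¹)⁻¹ * z = r⁻¹ * z * r by group] at h2
      have h3 := h1.map (MulAut.conj r).toMonoidHom
      simpa [mul_assoc] using h3
    have haN : a ∈ normalizer (R : Set G) := by
      refine mem_normalizer_of_conjS_eq (eq_of_le_of_card_ge ?_ (card_conjS _ _).ge)
      rintro _ ⟨r, hr, rfl⟩
      show a * r * a⁻¹ ∈ R
      have e : a * r * a⁻¹ = r * a * r⁻¹ * a * r := by
        have h' := (C.comm ha (C.normal r (hRP hr) a ha)).eq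
        rw [C.inv_eq ha, ← h']; group
      rw [e]
      exact mul_mem (hBR (hcB r hr)) hr
    have haR : a ∉ R := fun h => haB' ⟨h, ha⟩
    set v0 := g * v * g⁻¹ with hv0def
    have hv0 : v0 ∈ B := hgB'.le (conj_mem_conjS hv)
    set D := B ⊓ B' with hDdef
    have hDR : D ≤ R := inf_le_left.trans hBR
    have hnD : ∀ r ∈ R, conjS r D = D := fun r hr => by
      rw [hDdef, show conjS r (B ⊓ B') = conjS r B ⊓ conjS r B' from
        Subgroup.map_inf B B' _ (MulEquiv.injective _), hRB r hr, hRB' r hr]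
    have hwD : conjS (a * g) D = D := by
      rw [conjS_mul, show conjS g D = D by
        rw [hDdef, show conjS g (B ⊓ B') = conjS g B ⊓ conjS g B' from
          Subgroup.map_inf B B' _ (MulEquiv.injective _), hgB', ← hB'def, inf_comm]]
      refine eq_of_le_of_card_ge ?_ (card_conjS _ _).ge
      rintro _ ⟨d, hd, rfl⟩
      show a * d * a⁻¹ ∈ D
      rw [(C.comm ha hd.1.2).eq, mul_inv_cancel_right]; exact hd
    have hrv : ∀ r ∈ R, r * v * r⁻¹ * v⁻¹ ∈ D := by
      intro r hr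
      have h2 : r * v * r⁻¹ * v⁻¹ ∈ B' := mul_mem ((hRB' r hr).le (conj_mem_conjS hv)) (inv_mem hv)
      refine ⟨⟨hB'R h2, ?_⟩, h2⟩
      have hz' := C.z_central r (hRP hr)
      have hzm := C.z_mem
      have e' : r * v * r⁻¹ * v⁻¹ = (r * z * r⁻¹ * z⁻¹) *
          (z * (r * (z⁻¹ * v) * r⁻¹) * z⁻¹) * (z * (z⁻¹ * v) * z⁻¹)⁻¹ := by group
      rw [e']
      refine mul_mem (mul_mem ?_ (C.normal z hzm _ (C.normal r (hRP hr) _ hvz)))
        (A.inv_mem (C.normal z hzm _ hvz))
      rw [show r * z * r⁻¹ * z⁻¹ = (z * r * z⁻¹ * r⁻¹)⁻¹ by group]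
      exact A.inv_mem hz'
    obtain ⟨m, hm, hmQ⟩ := hodd a ha haN haR
    have hw1 : (a * g) * v * (a * g)⁻¹ = v0 := by
      calc (a * g) * v * (a * g)⁻¹ = a * v0 * a⁻¹ := by rw [hv0def]; group
        _ = v0 := by rw [(C.comm ha hv0.2).eq, mul_inv_cancel_right]
    have hU : conjS (a * g) (D ⊔ zpowers v) = D ⊔ zpowers v0 := by
      rw [show conjS (a * g) (D ⊔ zpowers v) = conjS (a * g) D ⊔ conjS (a * g) (zpowers v) from
        Subgroup.map_sup D _ _, hwD, show conjS (a * g) (zpowers v) = zpowers v0 by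
          rw [conjS, MonoidHom.map_zpowers]; simp only [MulEquiv.coe_toMonoidHom, MulAut.conj_apply]
          rw [hw1]]
    have hU0 : conjS (a * g) (D ⊔ zpowers v0) ≤ D ⊔ zpowers v := by
      rw [show conjS (a * g) (D ⊔ zpowers v0) = conjS (a * g) D ⊔ conjS (a * g) (zpowers v0) from
        Subgroup.map_sup D _ _, hwD]
      refine sup_le le_sup_left ?_
      rw [conjS, MonoidHom.map_zpowers, zpowers_le]
      simp only [MulEquiv.coe_toMonoidHom, MulAut.conj_apply]
      obtain ⟨r, hr, hrq⟩ := hQ _ hg2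
      have h := hrq v (hB'R hv)
      have hd := hrv r hr
      rw [← h] at hd
      have e : (a * g) * v0 * (a * g)⁻¹ = a * (g * g * v * (g * g)⁻¹ * v⁻¹) * a⁻¹ * (a * v * a⁻¹) := by
        rw [hv0def]; group
      rw [e]
      refine mul_mem ?_ ?_
      · rw [(C.comm ha hd.1.2).eq, mul_inv_cancel_right]
        exact le_sup_left (b := zpowers v) hd
      · rw [((hcz ha).1 haz').eq, mul_inv_cancel_right]
        exact le_sup_right (a := D) (mem_zpowers v)
    have hU0' : conjS (a * g) (D ⊔ zpowers v0) = D ⊔ zpowers v := by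
      refine eq_of_le_of_card_ge hU0 ?_
      rw [card_conjS, ← hU, card_conjS]
    have hDv : D ⊔ zpowers v ≤ R := sup_le hDR (zpowers_le.2 (hB'R hv))
    have hfixU := conjS_pow_fix hm (by rw [conjS_mul, hU, hU0']) (hQfix _ hDv (fun r hr => by
      refine eq_of_le_of_card_ge ?_ (card_conjS _ _).ge
      rw [show conjS r (D ⊔ zpowers v) = conjS r D ⊔ conjS r (zpowers v) from
        Subgroup.map_sup D _ _, hnD r hr]
      refine sup_le le_sup_left ?_
      rw [conjS, MonoidHom.map_zpowers, zpowers_le]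
      simp only [MulEquiv.coe_toMonoidHom, MulAut.conj_apply]
      rw [show r * v * r⁻¹ = (r * v * r⁻¹ * v⁻¹) * v by group]
      exact mul_mem (le_sup_left (b := zpowers v) (hrv r hr)) (le_sup_right (a := D) (mem_zpowers v))) _ hmQ)
    have hvB : v ∈ B := by
      have h : v ∈ D ⊔ zpowers v0 := by
        rw [← hU, hfixU]; exact le_sup_right (a := D) (mem_zpowers v)
      exact (sup_le inf_le_left (zpowers_le.2 hv0) : D ⊔ zpowers v0 ≤ B) h
    apply C.z_inv.1
    simpa using A.mul_mem hvB.2 (A.inv_mem hvz)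

end Cfsg.Agent.Lib.M24Type70
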