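import Mathlib.GroupTheory.Sylow
import Mathlib.GroupTheory.Perm.Cycle.Type
import Mathlib.GroupTheory.Complement

/-!
# The action on the abelian 64 normalizes no odd abelian group of automorphisms

`V` is elementary abelian of order 64 with the involutions `z`, `x1`, `x2` of a dihedral group of
order 8 acting as in a Sylow 2-subgroup of M24 modulo its centre.
-/

set_option autoImplicit false

namespace Cfsg.Agent.Lib.M24Type70

open Subgroup

variable {V : Type*} [CommGroup V]

/-- The map `v ↦ f v * v`. -/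
def del (f : MulAut V) : V →* V where
  toFun v := f v * v
  map_one' := by simp
  map_mul' a b := by rw [map_mul]; exact mul_mul_mul_comm _ _ _ _

theorem del_apply (f : MulAut V) (v : V) : del f v = f v * v := rfl

/-- The properties of the three involutions. -/
structure Act (z x1 x2 : MulAut V) : Prop where
  card : Nat.card V = 64
  sq : ∀ v : V, v * v = 1
  z2 : z * z = 1
  x12 : x1 * x1 = 1
  x22 : x2 * x2 = 1
  zx1 : z * x1 = x1 * z
  zx2 : z * x2 = x2 * z
  wsq : x1 * x2 * (x1 * x2) = z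
  fz : Nat.card (del z).ker = 16
  fx : ∀ f, (f = x1 ∨ f = x2 ∨ f = x1 * z) → Nat.card (del f).ker = 16
  four : ∀ f, (f = x1 ∨ f = x2 ∨ f = x1 * z) → Nat.card ((del f).ker ⊓ (del z).ker : Subgroup V) = 8
  quad : ∀ f, (f = x1 ∨ f = x2 ∨ f = x1 * z) →
    ∀ v, z (del f v) = del f v ∧ f (del z v) = del z v
  zero : ∀ v, x1 (del z v) = del z v ∧ x2 (del z v) = del z v

section

variable (hsq : ∀ v : V, v * v = 1)
include hsq

theorem mem_ker {f : MulAut V} {v : V} : v ∈ (del f).ker ↔ f v = v := by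
  have hv : v⁻¹ = v := inv_eq_of_mul_eq_one_right (hsq v)
  rw [MonoidHom.mem_ker, del_apply, mul_eq_one_iff_eq_inv, hv]

theorem fix_del {f : MulAut V} (hf : f * f = 1) (v : V) : f (del f v) = del f v := by
  have h : f (f v) = v := DFunLike.congr_fun hf v
  rw [del_apply, map_mul, h, mul_comm]

theorem fix_of_fix_sq {y : MulAut V} {q : ℕ} (hq : Odd q) (hy : y ^ q = 1) {v : V}
    (h : y (y v) = v) : y v = v := by
  obtain ⟨k, rfl⟩ := hq
  have hk : ∀ j : ℕ, (y ^ (2 * j)) v = v := by
    intro j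
    induction j with
    | zero => simp
    | succ j ih => rw [mul_add, pow_add, MulAut.mul_apply, mul_one, pow_two, MulAut.mul_apply, h, ih]
  have : (y ^ (2 * k + 1)) v = v := by rw [hy]; rfl
  rw [pow_succ', MulAut.mul_apply, hk k] at this
  exact this

theorem disj {y : MulAut V} {q : ℕ} (hq : Odd q) (hy : y ^ q = 1) :
    (del y).ker ⊓ (del y).range = ⊥ := by
  rw [eq_bot_iff]
  rintro _ ⟨hw, v, rfl⟩
  replace hw : y (del y v) = del y v := (mem_ker hsq).1 hw
  rw [del_apply, map_mul] at hw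
  have h : y (y v) = v := by
    rw [mul_comm (y v) v] at hw
    exact mul_right_cancel hw
  show y v * v = 1
  rw [fix_of_fix_sq hsq hq hy h, hsq]

end

theorem card_ker_range [Finite V] (f : V →* V) : Nat.card f.ker * Nat.card f.range = Nat.card V := by
  rw [← Subgroup.index_ker, card_mul_index]

/-- The image of the map `v ↦ f v * v` on an invariant subgroup. -/
theorem card_map_del [Finite V] (f : MulAut V) (X : Subgroup V) :
    Nat.card (X ⊓ (del f).ker : Subgroup V) * Nat.card (X.map (del f)) = Nat.card X := by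
  have h := Subgroup.index_ker ((del f).comp X.subtype)
  rw [MonoidHom.range_comp, Subgroup.range_subtype] at h
  have h2 := card_mul_index ((del f).comp X.subtype).ker
  rw [h] at h2
  rw [← h2]
  congr 1
  have e : X ⊓ (del f).ker = ((del f).comp X.subtype).ker.map X.subtype := by
    rw [← MonoidHom.comap_ker]
    change X ⊓ _ = ((del f).ker.subgroupOf X).map X.subtype
    rw [subgroupOf_map_subtype, inf_comm]
  rw [e, Subgroup.card_map_of_injective X.subtype_injective]

theorem card_fix_mod [Finite V] {y : MulAut V} {q : ℕ} [Fact q.Prime] (hy : y ^ q = 1)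
    (X : Subgroup V) (hX : ∀ v ∈ X, y v ∈ X) (hfix : ∀ v ∈ X, y v = v → v = 1) :
    Nat.card X ≡ 1 [MOD q] := by
  classical
  haveI := Fintype.ofFinite V
  let g : X → X := fun v => ⟨y v, hX v v.2⟩
  have hg : Function.Injective g := fun a b h => Subtype.ext (y.injective (congrArg Subtype.val h))
  let σ : Equiv.Perm X := Equiv.ofBijective g ⟨hg, Finite.surjective_of_injective hg⟩
  have hpow : ∀ (n : ℕ) (v : X), (((σ ^ n) v : X) : V) = (y ^ n) v := by
    intro n
    induction n with
    | zero => intro v; rfl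
    | succ n ih =>
      intro v
      rw [pow_succ', pow_succ', Equiv.Perm.mul_apply, MulAut.mul_apply, ← ih]
      rfl
  have hσ : σ ^ q ^ 1 = 1 := Equiv.ext fun v => Subtype.ext (by rw [pow_one, hpow, hy]; rfl)
  have h := Equiv.Perm.card_compl_support_modEq hσ
  have hs : σ.supportᶜ = {1} := by
    ext v
    rw [Finset.mem_compl, Equiv.Perm.notMem_support, Finset.mem_singleton]
    constructor
    · intro e; exact Subtype.ext (hfix v v.2 (congrArg Subtype.val e))
    · rintro rfl; exact Subtype.ext (map_one y)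
  rw [hs, Finset.card_singleton] at h
  rw [Nat.card_eq_fintype_card]
  exact h.symm

/-- Fixed points split along an invariant direct decomposition. -/
theorem card_inf_split [Finite V] {C W F : Subgroup V} (hd : C ⊓ W = ⊥) (ht : C ⊔ W = ⊤)
    (hF : ∀ c ∈ C, ∀ w ∈ W, c * w ∈ F → c ∈ F ∧ w ∈ F) :
    Nat.card (C ⊓ F : Subgroup V) * Nat.card (W ⊓ F : Subgroup V) = Nat.card F := by
  rw [← Nat.card_prod]
  refine Nat.card_congr (Equiv.ofBijective (fun p => (⟨(p.1 : V) * p.2, mul_mem p.1.2.2 p.2.2.2⟩ : F))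
    ⟨fun a b h => ?_, fun v => ?_⟩)
  · have h' : (a.1 : V) * a.2 = b.1 * b.2 := congrArg Subtype.val h
    have e : (b.1 : V)⁻¹ * a.1 = b.2 * (a.2 : V)⁻¹ := by
      rw [inv_mul_eq_iff_eq_mul, ← mul_assoc, ← h', mul_inv_cancel_right]
    have hm : (b.1 : V)⁻¹ * a.1 ∈ C ⊓ W :=
      ⟨C.mul_mem (C.inv_mem b.1.2.1) a.1.2.1, e ▸ W.mul_mem b.2.2.1 (W.inv_mem a.2.2.1)⟩
    rw [hd, mem_bot] at hm
    rw [hm] at e
    exact Prod.ext (Subtype.ext (inv_mul_eq_one.1 hm).symm) (Subtype.ext (mul_inv_eq_one.1 e.symm).symm)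
  · obtain ⟨c, hc, w, hw, e⟩ := Subgroup.mem_sup.1 (ht.ge (mem_top (v : V)))
    obtain ⟨h1, h2⟩ := hF c hc w hw (e ▸ v.2)
    exact ⟨(⟨c, hc, h1⟩, ⟨w, hw, h2⟩), Subtype.ext e⟩

/-- An invariant direct decomposition gives the splitting property for fixed points. -/
theorem split_ker (hsq : ∀ v : V, v * v = 1) {C W : Subgroup V} (hd : C ⊓ W = ⊥) {f : MulAut V}
    (hC : ∀ v ∈ C, f v ∈ C) (hW : ∀ v ∈ W, f v ∈ W) :
    ∀ c ∈ C, ∀ w ∈ W, c * w ∈ (del f).ker → c ∈ (del f).ker ∧ w ∈ (del f).ker := by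
  intro c hc w hw h
  simp only [mem_ker hsq] at h ⊢
  rw [map_mul] at h
  have e : c⁻¹ * f c = w * (f w)⁻¹ := by
    rw [inv_mul_eq_iff_eq_mul, ← mul_assoc, ← h, mul_inv_cancel_right]
  have hm : c⁻¹ * f c ∈ C ⊓ W :=
    ⟨C.mul_mem (C.inv_mem hc) (hC c hc), e ▸ W.mul_mem hw (W.inv_mem (hW w hw))⟩
  rw [hd, mem_bot] at hm
  rw [hm] at e
  exact ⟨(inv_mul_eq_one.1 hm).symm, (mul_inv_eq_one.1 e.symm).symm⟩

/-- Preservation of the decomposition by an element centralizing or inverting `y`. -/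
theorem invariant (hsq : ∀ v : V, v * v = 1) {f y : MulAut V}
    (hfy : f * y = y * f ∨ f * y = y⁻¹ * f) :
    (∀ v ∈ (del y).ker, f v ∈ (del y).ker) ∧ ∀ v ∈ (del y).range, f v ∈ (del y).range := by
  rcases hfy with h | h
  · have h' : ∀ v, f (y v) = y (f v) := fun v => DFunLike.congr_fun h v
    refine ⟨fun v hv => ?_, ?_⟩
    · rw [mem_ker hsq] at hv ⊢
      rw [← h', hv]
    · rintro _ ⟨v, rfl⟩
      exact ⟨f v, by rw [del_apply, del_apply, map_mul, h']⟩
  · have h' : ∀ v, f (y v) = y⁻¹ (f v) := fun v => DFunLike.congr_fun h v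
    refine ⟨fun v hv => ?_, ?_⟩
    · rw [mem_ker hsq] at hv ⊢
      have := h' v
      rw [hv] at this
      nth_rw 1 [this]
      exact MulEquiv.apply_symm_apply y (f v)
    · rintro _ ⟨v, rfl⟩
      refine ⟨y⁻¹ (f v), ?_⟩
      rw [del_apply, del_apply, map_mul, h', mul_comm]
      exact congrArg _ (MulEquiv.apply_symm_apply y (f v))

theorem sup_eq_top [Finite V] (hsq : ∀ v : V, v * v = 1) {y : MulAut V} {q : ℕ} (hq : Odd q)
    (hy : y ^ q = 1) : (del y).ker ⊔ (del y).range = ⊤ := by
  have h := Subgroup.isComplement'_of_card_mul_and_disjoint (card_ker_range (del y))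
    (disjoint_iff.2 (disj hsq hq hy))
  exact h.sup_eq_top

theorem range_ne_bot (hsq : ∀ v : V, v * v = 1) {y : MulAut V} (h : y ≠ 1) :
    (del y).range ≠ ⊥ := fun e => h (MulEquiv.ext fun v => by
  have hv : del y v ∈ (del y).range := ⟨v, rfl⟩
  rw [e, mem_bot] at hv
  exact (mem_ker hsq).1 (MonoidHom.mem_ker.2 hv))

/-- Two commuting involutions on `y`-invariant parts leave a nontrivial common fixed point. -/
theorem exists_common_fix {f z : MulAut V} (hsq : ∀ v : V, v * v = 1) (hf : f * f = 1)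
    (hz : z * z = 1) (hq : ∀ v, z (del f v) = del f v) {X : Subgroup V} (hX : X ≠ ⊥)
    (hfX : ∀ v ∈ X, f v ∈ X) (hzX : ∀ v ∈ X, z v ∈ X) :
    X ⊓ ((del f).ker ⊓ (del z).ker) ≠ ⊥ := by
  intro e
  obtain ⟨⟨x, hx⟩, hxne⟩ := ne_bot_iff_exists_ne_one.1 hX
  have hx1 : x ≠ 1 := fun h => hxne (Subtype.ext h)
  have hmem : ∀ v ∈ X, f v = v → z v = v → v = 1 := fun v hv h1 h2 => by
    have : v ∈ X ⊓ ((del f).ker ⊓ (del z).ker) := ⟨hv, (mem_ker hsq).2 h1, (mem_ker hsq).2 h2⟩
    rwa [e, mem_bot] at this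
  have h1 : f x = x := by
    have := hmem (del f x) (mul_mem (hfX x hx) hx) (fix_del hsq hf x) (hq x)
    exact (mem_ker hsq).1 (MonoidHom.mem_ker.2 this)
  have hfz : f (z x) = z x := by
    have hd := hmem (del f (z x)) (mul_mem (hfX _ (hzX x hx)) (hzX x hx)) (fix_del hsq hf _) (hq _)
    exact (mem_ker hsq).1 (MonoidHom.mem_ker.2 hd)
  have h2 : z x = x := by
    have := hmem (del z x) (mul_mem (hzX x hx) hx) (by rw [del_apply, map_mul, hfz, h1])
      (fix_del hsq hz x)
    exact (mem_ker hsq).1 (MonoidHom.mem_ker.2 this)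
  exact hx1 (hmem x hx h1 h2)

variable [Finite V]

/-- An inverting involution. -/
theorem inverting (hsq : ∀ v : V, v * v = 1) (hcard : Nat.card V = 64) {y f g : MulAut V} {q : ℕ}
    [Fact q.Prime] (hq : Odd q) (hy : y ^ q = 1) (hy1 : y ≠ 1) (hg : g * g = 1)
    (hgy : g * y = y⁻¹ * g) (hfy : f * y = y * f)
    (hgf : ∀ v, g (del f v) = del f v) (hg16 : Nat.card (del g).ker = 16)
    (hf16 : Nat.card (del f).ker = 16) (hfg : Nat.card ((del f).ker ⊓ (del g).ker : Subgroup V) = 8) :
    Nat.card (del y).range = 4 ∧ (∀ w ∈ (del y).range, f w = w) ∧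
      Nat.card ((del y).range ⊓ (del g).ker : Subgroup V) = 2 ∧
      (del y).range.map (del g) = (del y).range ⊓ (del g).ker := by
  set W := (del y).range with hW
  set C := (del y).ker with hC
  have hd : C ⊓ W = ⊥ := disj hsq hq hy
  have ht : C ⊔ W = ⊤ := sup_eq_top hsq hq hy
  obtain ⟨hgC, hgW⟩ := invariant hsq (f := g) (y := y) (Or.inr hgy)
  obtain ⟨hfC, hfW⟩ := invariant hsq (f := f) (y := y) (Or.inl hfy)
  have hgy' : ∀ v, g (y v) = y⁻¹ (g v) := fun v => DFunLike.congr_fun hgy v
  -- no point of `W` is fixed with its image by `g`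
  have hnone : ∀ w ∈ W, g w = w → g (y w) = y w → w = 1 := by
    intro w hw h1 h2
    have h3 : y⁻¹ w = y w := by rw [← h2, hgy', h1]
    have h4 : y (y w) = w := by rw [← h3]; exact MulEquiv.apply_symm_apply y w
    have : w ∈ C ⊓ W := ⟨(mem_ker hsq).2 (fix_of_fix_sq hsq hq hy h4), hw⟩
    rwa [hd, mem_bot] at this
  have hyW : ∀ w ∈ W, y w ∈ W := fun w ⟨v, hv⟩ => ⟨y v, by rw [← hv, del_apply, del_apply, map_mul]⟩
  have hfW1 : ∀ w ∈ W, f w = w := by
    intro w hw
    have hyf : y (del f w) = del f (y w) := by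
      rw [del_apply, del_apply, map_mul, show y (f w) = f (y w) from (DFunLike.congr_fun hfy w).symm]
    have := hnone (del f w) (mul_mem (hfW w hw) hw) (hgf w) (by rw [hyf]; exact hgf _)
    exact (mem_ker hsq).1 (MonoidHom.mem_ker.2 this)
  set Wg := W ⊓ (del g).ker with hWg
  have himg : W.map (del g) ≤ Wg := by
    rintro _ ⟨w, hw, rfl⟩
    exact ⟨mul_mem (hgW w hw) hw, (mem_ker hsq).2 (fix_del hsq hg w)⟩
  have hm := card_map_del g W
  have hle := Subgroup.card_le_of_le himg
  have hle2 : Nat.card Wg * Nat.card Wg ≤ Nat.card W := by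
    rw [← Nat.card_prod]
    refine Nat.card_le_card_of_injective
      (fun p : Wg × Wg => (⟨(p.1 : V) * y p.2, mul_mem p.1.2.1 (hyW _ p.2.2.1)⟩ : W)) fun a b h => ?_
    have h' : (a.1 : V) * y a.2 = b.1 * y b.2 := congrArg Subtype.val h
    have e : (b.1 : V)⁻¹ * a.1 = y (b.2 * (a.2 : V)⁻¹) := by
      rw [map_mul, map_inv, inv_mul_eq_iff_eq_mul, ← mul_assoc, ← h', mul_inv_cancel_right]
    have hu : (b.2 * (a.2 : V)⁻¹ : V) ∈ Wg := mul_mem b.2.2 (inv_mem a.2.2)
    have hu1 : (b.2 * (a.2 : V)⁻¹ : V) = 1 := by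
      refine hnone _ hu.1 ((mem_ker hsq).1 hu.2) ?_
      rw [← e]
      exact (mem_ker hsq).1 (mul_mem (inv_mem b.1.2.2) a.1.2.2)
    have h2 : (a.2 : V) = b.2 := (mul_inv_eq_one.1 hu1).symm
    rw [h2] at h'
    exact Prod.ext (Subtype.ext (mul_right_cancel h')) (Subtype.ext h2)
  have hWg0 : 0 < Nat.card Wg := Nat.card_pos
  have heqc : Nat.card (W.map (del g)) = Nat.card Wg := by nlinarith
  have heq : W.map (del g) = Wg := eq_of_le_of_card_ge himg heqc.ge
  have hW2 : Nat.card W = Nat.card Wg * Nat.card Wg := by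
    rw [heqc] at hm; exact hm.symm
  have hsplit := card_inf_split (F := (del g).ker) hd ht (split_ker hsq hd hgC hgW)
  rw [hg16, ← hWg] at hsplit
  have hC2 : Nat.card C * Nat.card W = 64 := by rw [← hcard]; exact card_ker_range (del y)
  have hCle : Nat.card (C ⊓ (del g).ker : Subgroup V) ≤ Nat.card C := card_le_of_le inf_le_left
  have hfsplit := card_inf_split (F := (del f).ker) hd ht (split_ker hsq hd hfC hfW)
  rw [hf16, show W ⊓ (del f).ker = W from le_antisymm inf_le_left
    (fun w hw => ⟨hw, (mem_ker hsq).2 (hfW1 w hw)⟩), hW2] at hfsplit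
  have hCf : Nat.card (C ⊓ ((del f).ker ⊓ (del g).ker) : Subgroup V) ≤
      Nat.card (C ⊓ (del f).ker : Subgroup V) := card_le_of_le (inf_le_inf_left _ inf_le_left)
  have hfour := card_inf_split (F := (del f).ker ⊓ (del g).ker) hd ht (fun c hc w hw h =>
    ⟨⟨(split_ker hsq hd hfC hfW c hc w hw h.1).1, (split_ker hsq hd hgC hgW c hc w hw h.2).1⟩,
      (split_ker hsq hd hfC hfW c hc w hw h.1).2, (split_ker hsq hd hgC hgW c hc w hw h.2).2⟩)
  rw [hfg] at hfour
  have hWgf : W ⊓ ((del f).ker ⊓ (del g).ker) = Wg := le_antisymm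
    (inf_le_inf_left _ inf_le_right)
    (fun w hw => ⟨hw.1, (mem_ker hsq).2 (hfW1 w hw.1), hw.2⟩)
  rw [hWgf] at hfour
  -- `f` fixes `W`, so the fixed points in `C` bound the order of `W`
  have hne : Nat.card Wg ≠ 1 := fun e => range_ne_bot hsq hy1 (card_eq_one.1 (by rw [hW2, e]))
  have hCg : Nat.card (C ⊓ ((del f).ker ⊓ (del g).ker) : Subgroup V) ≤
      Nat.card (C ⊓ (del g).ker : Subgroup V) := card_le_of_le (inf_le_inf_left _ inf_le_right)
  have hfz : C ⊓ ((del f).ker ⊓ (del g).ker) ≤ C := inf_le_left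
  have hdvd : Nat.card Wg ∣ 8 := Dvd.intro_left _ hfour
  have hle8 : Nat.card Wg ≤ 8 := Nat.le_of_dvd (by norm_num) hdvd
  have h2 : Nat.card Wg = 2 := by
    rw [hW2] at hC2
    have hCc := card_le_of_le hfz
    interval_cases h : Nat.card Wg <;> first | omega | (norm_num at hdvd; done)
  exact ⟨by rw [hW2, h2], hfW1, h2, heq⟩

/-- An odd abelian group of automorphisms cannot be normalized by the three involutions. -/
theorem no_odd {z x1 x2 : MulAut V} (H : Act z x1 x2) {q : ℕ} [Fact q.Prime] (hqo : Odd q)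
    (Y : Subgroup (MulAut V)) (hYc : ∀ a ∈ Y, ∀ b ∈ Y, a * b = b * a) (hYq : ∀ a ∈ Y, a ^ q = 1)
    (hY : Y ≠ ⊥) (hzY : ∀ a ∈ Y, z * a * z ∈ Y) (h1Y : ∀ a ∈ Y, x1 * a * x1 ∈ Y)
    (h2Y : ∀ a ∈ Y, x2 * a * x2 ∈ Y) : False := by
  classical
  have hsq := H.sq
  -- from the conjugate to the commutation
  have toCen : ∀ {f a : MulAut V}, f * f = 1 → f * a * f = a → f * a = a * f := by
    intro f a hf h
    calc f * a = f * a * (f * f) := by rw [hf, mul_one]
      _ = f * a * f * f := by group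
      _ = a * f := by rw [h]
  have toInv : ∀ {f a : MulAut V}, f * f = 1 → f * a * f * a = 1 → f * a = a⁻¹ * f := by
    intro f a hf h
    have h' : f * a * f = a⁻¹ := eq_inv_of_mul_eq_one_left h
    calc f * a = f * a * (f * f) := by rw [hf, mul_one]
      _ = f * a * f * f := by group
      _ = a⁻¹ * f := by rw [h']
  have fixed : ∀ {f a : MulAut V}, f * f = 1 → a ∈ Y → f * a * f ∈ Y →
      f * (a * (f * a * f)) * f = a * (f * a * f) := by
    intro f a hf ha ha'
    calc f * (a * (f * a * f)) * f = (f * a * f) * a * (f * f) := by group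
      _ = a * (f * a * f) := by rw [hf, mul_one, hYc _ ha' _ ha]
  have hx1z : (x1 * z) * (x1 * z) = 1 := by
    calc x1 * z * (x1 * z) = x1 * (z * x1) * z := by group
      _ = (x1 * x1) * (z * z) := by rw [H.zx1]; group
      _ = 1 := by rw [H.x12, H.z2, one_mul]
  by_cases hz : ∃ a ∈ Y, a ≠ 1 ∧ z * a = a * z
  · -- choose `y` fixed or inverted by both
    have step : ∀ {f : MulAut V}, f * f = 1 → z * f = f * z → (∀ a ∈ Y, f * a * f ∈ Y) →
        ∀ a ∈ Y, a ≠ 1 → z * a = a * z →
        ∃ b ∈ Y, b ≠ 1 ∧ z * b = b * z ∧ (f * b = b * f ∨ f * b = b⁻¹ * f) ∧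
          (b = a ∨ b = a * (f * a * f)) := by
      intro f hf hzf hfY a ha ha1 hza
      by_cases h : f * a * f * a = 1
      · exact ⟨a, ha, ha1, hza, Or.inr (toInv hf h), Or.inl rfl⟩
      · have hfa := hfY a ha
        refine ⟨_, mul_mem ha hfa, fun e => h (by rw [hYc _ hfa _ ha]; exact e), ?_,
          Or.inl (toCen hf (fixed hf ha hfa)), Or.inr rfl⟩
        calc z * (a * (f * a * f)) = (z * a) * (f * a * f) := by group
          _ = a * ((z * f) * a * f) := by rw [hza]; group
          _ = a * (f * (z * a) * f) := by rw [hzf]; group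
          _ = a * (f * a * (z * f)) := by rw [hza]; group
          _ = a * (f * a * f) * z := by rw [hzf]; group
    obtain ⟨a, ha, ha1, hza⟩ := hz
    obtain ⟨b, hb, hb1, hzb, hx1b, -⟩ := step H.x12 H.zx1 h1Y a ha ha1 hza
    obtain ⟨y, hy, hy1, hzy, hx2y, hyb⟩ := step H.x22 H.zx2 h2Y b hb hb1 hzb
    have h21 : x1 * x2 = x2 * x1 * z := by
      calc x1 * x2 = (x2 * x1) * ((x1 * x2) * (x1 * x2)) := by
            calc x1 * x2 = 1 * (x1 * x2) := (one_mul _).symm
              _ = x2 * (x1 * x1) * x2 * (x1 * x2) := by rw [H.x12, mul_one, H.x22]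
              _ = _ := by group
        _ = x2 * x1 * z := by rw [H.wsq]
    have hx1y : x1 * y = y * x1 ∨ x1 * y = y⁻¹ * x1 := by
      rcases hyb with rfl | rfl
      · exact hx1b
      · have e : x1 * (x2 * b * x2) * x1 = x2 * (x1 * b * x1) * x2 := by
          have i1 := inv_eq_of_mul_eq_one_right H.x12
          have i2 := inv_eq_of_mul_eq_one_right H.x22
          calc x1 * (x2 * b * x2) * x1 = (x1 * x2) * b * (x2⁻¹ * x1⁻¹) := by rw [i1, i2]; group
            _ = (x2 * x1 * z) * b * (x2 * x1 * z)⁻¹ := by rw [← mul_inv_rev, h21]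
            _ = x2 * x1 * (z * b * z⁻¹) * (x1⁻¹ * x2⁻¹) := by group
            _ = x2 * (x1 * b * x1) * x2 := by rw [hzb, mul_inv_cancel_right, i1, i2]; group
        rcases hx1b with h | h
        · left
          refine toCen H.x12 ?_
          have h' : x1 * b * x1 = b := by rw [h, mul_assoc, H.x12, mul_one]
          calc x1 * (b * (x2 * b * x2)) * x1
              = x1 * b * x1 * (x1⁻¹ * x1⁻¹) * (x1 * (x2 * b * x2) * x1) := by group
            _ = b * (x2 * b * x2) := by
              rw [e, h', inv_eq_of_mul_eq_one_right H.x12, H.x12, mul_one]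
        · right
          refine toInv H.x12 ?_
          have h' : x1 * b * x1 = b⁻¹ := by rw [h, mul_assoc, H.x12, mul_one]
          have hb2 := h2Y b hb
          calc x1 * (b * (x2 * b * x2)) * x1 * (b * (x2 * b * x2))
              = x1 * b * x1 * (x1⁻¹ * x1⁻¹) * (x1 * (x2 * b * x2) * x1) * (b * (x2 * b * x2)) := by
                group
            _ = b⁻¹ * (x2 * b⁻¹ * x2) * (b * (x2 * b * x2)) := by
              rw [e, h', inv_eq_of_mul_eq_one_right H.x12, H.x12, mul_one]
            _ = b⁻¹ * (x2 * b⁻¹ * x2) * ((x2 * b * x2) * b) := by rw [hYc _ hb _ hb2]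
            _ = b⁻¹ * (x2 * b⁻¹ * (x2 * x2) * b * x2) * b := by group
            _ = 1 := by rw [H.x22, mul_one, inv_mul_cancel_right, H.x22, mul_one, inv_mul_cancel]
    set W := (del y).range with hW
    set C := (del y).ker with hC
    have hyq := hYq y hy
    have hd : C ⊓ W = ⊥ := disj hsq hqo hyq
    have ht : C ⊔ W = ⊤ := sup_eq_top hsq hqo hyq
    obtain ⟨hzC, hzW⟩ := invariant hsq (f := z) (y := y) (Or.inl hzy)
    have hyW : ∀ w ∈ W, y w ∈ W := fun w ⟨v, hv⟩ =>
      ⟨y v, by rw [← hv, del_apply, del_apply, map_mul]⟩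
    have hfixW : ∀ w ∈ W, y w = w → w = 1 := fun w hw e => by
      have : w ∈ C ⊓ W := ⟨(mem_ker hsq).2 e, hw⟩
      rwa [hd, mem_bot] at this
    have hCW : Nat.card C * Nat.card W = 64 := by rw [← H.card]; exact card_ker_range (del y)
    have commFix : ∀ {f : MulAut V}, f * y = y * f → ∀ w, f w = w → f (y w) = y w := by
      intro f hfy w h
      have := DFunLike.congr_fun hfy w
      rw [MulAut.mul_apply, MulAut.mul_apply, h] at this
      exact this
    have centralCase : ∀ {f : MulAut V}, (f = x1 ∨ f = x2) → f * f = 1 → f * y = y * f → False := by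
      intro f hf hf2 hfy
      have hf' : f = x1 ∨ f = x2 ∨ f = x1 * z := by tauto
      obtain ⟨hfC, hfW⟩ := invariant hsq (f := f) (y := y) (Or.inl hfy)
      have hq0 : ∀ v, z (del f v) = del f v := fun v => (H.quad f hf' v).1
      set F := (del f).ker ⊓ (del z).ker with hF
      have hn := card_inf_split (F := F) hd ht (fun c hc w hw h =>
        ⟨⟨(split_ker hsq hd hfC hfW c hc w hw h.1).1, (split_ker hsq hd hzC hzW c hc w hw h.2).1⟩,
          (split_ker hsq hd hfC hfW c hc w hw h.1).2, (split_ker hsq hd hzC hzW c hc w hw h.2).2⟩)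
      have hfsplit := card_inf_split (F := (del f).ker) hd ht (split_ker hsq hd hfC hfW)
      have hzsplit := card_inf_split (F := (del z).ker) hd ht (split_ker hsq hd hzC hzW)
      rw [H.four f hf'] at hn
      rw [H.fx f hf'] at hfsplit
      rw [H.fz] at hzsplit
      have modW : Nat.card W ≡ 1 [MOD q] := card_fix_mod hyq W hyW hfixW
      have modF : Nat.card (W ⊓ F : Subgroup V) ≡ 1 [MOD q] := by
        refine card_fix_mod hyq _ (fun v hv => ⟨hyW v hv.1, (mem_ker hsq).2 ?_, (mem_ker hsq).2 ?_⟩)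
          fun v hv => hfixW v hv.1
        · exact commFix hfy v ((mem_ker hsq).1 hv.2.1)
        · exact commFix hzy v ((mem_ker hsq).1 hv.2.2)
      have modf : Nat.card (W ⊓ (del f).ker : Subgroup V) ≡ 1 [MOD q] :=
        card_fix_mod hyq _ (fun v hv => ⟨hyW v hv.1,
          (mem_ker hsq).2 (commFix hfy v ((mem_ker hsq).1 hv.2))⟩) fun v hv => hfixW v hv.1
      have modz : Nat.card (W ⊓ (del z).ker : Subgroup V) ≡ 1 [MOD q] :=
        card_fix_mod hyq _ (fun v hv => ⟨hyW v hv.1,
          (mem_ker hsq).2 (commFix hzy v ((mem_ker hsq).1 hv.2))⟩) fun v hv => hfixW v hv.1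
      have hnW : Nat.card (W ⊓ F : Subgroup V) ≠ 1 := fun e =>
        exists_common_fix hsq hf2 H.z2 hq0 (range_ne_bot hsq hy1) hfW hzW (card_eq_one.1 e)
      have hmC : Nat.card C ≠ 1 → Nat.card (C ⊓ F : Subgroup V) ≠ 1 := fun hC1 e =>
        exists_common_fix hsq hf2 H.z2 hq0 (fun h => hC1 (card_eq_one.2 h)) hfC hzC
          (card_eq_one.1 e)
      have hW0 := hyW
      have hWle : Nat.card (W ⊓ F : Subgroup V) ≤ Nat.card W := card_le_of_le inf_le_left
      have hCle : Nat.card (C ⊓ F : Subgroup V) ≤ Nat.card C := card_le_of_le inf_le_left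
      have hCfle : Nat.card (C ⊓ (del f).ker : Subgroup V) ≤ Nat.card C := card_le_of_le inf_le_left
      have hCzle : Nat.card (C ⊓ (del z).ker : Subgroup V) ≤ Nat.card C := card_le_of_le inf_le_left
      have hWfle : Nat.card (W ⊓ (del f).ker : Subgroup V) ≤ Nat.card W := card_le_of_le inf_le_left
      have hFf : Nat.card (C ⊓ F : Subgroup V) ≤ Nat.card (C ⊓ (del f).ker : Subgroup V) :=
        card_le_of_le (inf_le_inf_left _ inf_le_left)
      have hFz : Nat.card (C ⊓ F : Subgroup V) ≤ Nat.card (C ⊓ (del z).ker : Subgroup V) :=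
        card_le_of_le (inf_le_inf_left _ inf_le_right)
      have hWFf : Nat.card (W ⊓ F : Subgroup V) ≤ Nat.card (W ⊓ (del f).ker : Subgroup V) :=
        card_le_of_le (inf_le_inf_left _ inf_le_left)
      have hWFz : Nat.card (W ⊓ F : Subgroup V) ≤ Nat.card (W ⊓ (del z).ker : Subgroup V) :=
        card_le_of_le (inf_le_inf_left _ inf_le_right)
      have hndvd : Nat.card (W ⊓ F : Subgroup V) ∣ 8 := Dvd.intro_left _ hn
      have hn8 := Nat.le_of_dvd (by norm_num) hndvd
      have hq3 : 3 ≤ q := by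
        have := (Fact.out : q.Prime).two_le
        obtain ⟨k, hk⟩ := hqo
        omega
      -- the fixed points of `f` on `C` when both act trivially there
      have hboth : Nat.card (C ⊓ (del f).ker : Subgroup V) = Nat.card C →
          Nat.card (C ⊓ (del z).ker : Subgroup V) = Nat.card C →
          Nat.card (C ⊓ F : Subgroup V) = Nat.card C := by
        intro e1 e2
        have h1 := eq_of_le_of_card_ge (inf_le_left : C ⊓ (del f).ker ≤ C) e1.ge
        have h2 := eq_of_le_of_card_ge (inf_le_left : C ⊓ (del z).ker ≤ C) e2.ge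
        rw [show C ⊓ F = C from le_antisymm inf_le_left
          (le_inf le_rfl (le_inf (h1.ge.trans inf_le_right) (h2.ge.trans inf_le_right)))]
      have hWC : ∀ {X : Subgroup V}, (∀ v ∈ C, f v ∈ C) → X = C.map (del f) →
          X ≤ C ⊓ F := by
        rintro X - rfl _ ⟨c, hc, rfl⟩
        exact ⟨mul_mem (hfC c hc) hc, (mem_ker hsq).2 (fix_del hsq hf2 c), (mem_ker hsq).2 (hq0 c)⟩
      have himgC := card_le_of_le (hWC hfC rfl)
      have hcmap := card_map_del f C
      interval_cases hnn : Nat.card (W ⊓ F : Subgroup V) <;>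
        first | (norm_num at hndvd; done) | (norm_num at hnW; done) | skip
      · -- 2
        have := (Nat.modEq_iff_dvd' (by norm_num)).1 modF.symm
        have := Nat.le_of_dvd (by norm_num) this
        omega
      · -- 4
        have hd3 := Nat.le_of_dvd (by norm_num) ((Nat.modEq_iff_dvd' (by norm_num)).1 modF.symm)
        have hqe : q = 3 := by omega
        subst hqe
        have hm : Nat.card (C ⊓ F : Subgroup V) = 2 := by omega
        rw [Nat.ModEq] at modW modf modz
        rw [hm] at himgC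
        have hWd : Nat.card W ∣ 64 := Dvd.intro_left _ hCW
        have hWfd : Nat.card (W ⊓ (del f).ker : Subgroup V) ∣ 16 := Dvd.intro_left _ hfsplit
        have hWzd : Nat.card (W ⊓ (del z).ker : Subgroup V) ∣ 16 := Dvd.intro_left _ hzsplit
        have := Nat.le_of_dvd (by norm_num) hWd
        have := Nat.le_of_dvd (by norm_num) hWfd
        have := Nat.le_of_dvd (by norm_num) hWzd
        interval_cases hWW : Nat.card W <;> try omega
        all_goals
          (interval_cases hWf : Nat.card (W ⊓ (del f).ker : Subgroup V) <;> try omega)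
        all_goals
          (interval_cases hWz : Nat.card (W ⊓ (del z).ker : Subgroup V) <;> try omega)
        all_goals
          first
            | (have hboth' := hboth (by omega) (by omega); omega)
            | (rw [show Nat.card (C ⊓ (del f).ker : Subgroup V) = 4 by omega] at hcmap; omega)
      · -- 8
        have hm : Nat.card (C ⊓ F : Subgroup V) = 1 := by omega
        have hC1 : Nat.card C = 1 := by
          by_contra hh
          exact hmC hh hm
        have h7 : q ≤ 7 :=
          Nat.le_of_dvd (by norm_num) ((Nat.modEq_iff_dvd' (by norm_num)).1 modF.symm)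
        have hWf : Nat.card (W ⊓ (del f).ker : Subgroup V) = 16 := by
          have h1 : Nat.card (C ⊓ (del f).ker : Subgroup V) = 1 := by
            have := Nat.card_pos (α := (C ⊓ (del f).ker : Subgroup V))
            omega
          rw [h1] at hfsplit
          omega
        rw [hWf] at modf
        rw [Nat.ModEq] at modf modF
        interval_cases q <;> omega
    rcases hx1y with h1 | h1
    · exact centralCase (Or.inl rfl) H.x12 h1
    rcases hx2y with h2 | h2
    · exact centralCase (Or.inr rfl) H.x22 h2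
    -- both invert
    obtain ⟨hW4, -, hW1, -⟩ := inverting hsq H.card hqo hyq hy1 H.x12 h1 hzy
      (fun v => (H.zero v).1) (H.fx x1 (Or.inl rfl)) H.fz
      (by rw [inf_comm]; exact H.four x1 (Or.inl rfl))
    obtain ⟨-, hzW', hW2, -⟩ := inverting hsq H.card hqo hyq hy1 H.x22 h2 hzy
      (fun v => (H.zero v).2) (H.fx x2 (Or.inr (Or.inl rfl))) H.fz
      (by rw [inf_comm]; exact H.four x2 (Or.inr (Or.inl rfl)))
    obtain ⟨h1C, h1W⟩ := invariant hsq (f := x1) (y := y) (Or.inr h1)
    obtain ⟨h2C, h2W⟩ := invariant hsq (f := x2) (y := y) (Or.inr h2)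
    set P := C.map (del x1) ⊔ C.map (del x2) with hP
    have hcard : ∀ {f : MulAut V}, (∀ v ∈ C, f v ∈ C) → (∀ v ∈ W, f v ∈ W) →
        Nat.card (W ⊓ (del f).ker : Subgroup V) = 2 → Nat.card (del f).ker = 16 →
        Nat.card (C.map (del f)) = 2 := by
      intro f hfC hfW e2 e16
      have h := card_inf_split (F := (del f).ker) hd ht (split_ker hsq hd hfC hfW)
      rw [e2, e16] at h
      have h' := card_map_del f C
      rw [show Nat.card (C ⊓ (del f).ker : Subgroup V) = 8 by omega] at h'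
      rw [hW4] at hCW
      omega
    have hP1 := hcard h1C h1W hW1 (H.fx x1 (Or.inl rfl))
    have hP2 := hcard h2C h2W hW2 (H.fx x2 (Or.inr (Or.inl rfl)))
    have hPc : P ≤ C := sup_le (fun v ⟨c, hc, e⟩ => e ▸ mul_mem (h1C c hc) hc)
      (fun v ⟨c, hc, e⟩ => e ▸ mul_mem (h2C c hc) hc)
    have hP4 : Nat.card P ≤ 4 := by
      have hset : ((P : Subgroup V) : Set V) = (fun p : V × V => p.1 * p.2) ''
          ((C.map (del x1) : Set V) ×ˢ (C.map (del x2) : Set V)) := by
        ext v
        rw [SetLike.mem_coe, hP, Subgroup.mem_sup]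
        constructor
        · rintro ⟨a, ha, b, hb, rfl⟩; exact ⟨(a, b), ⟨ha, hb⟩, rfl⟩
        · rintro ⟨⟨a, b⟩, ⟨ha, hb⟩, rfl⟩; exact ⟨a, ha, b, hb, rfl⟩
      have e1 : Nat.card P = ((P : Subgroup V) : Set V).ncard := Nat.card_coe_set_eq _
      rw [e1, hset]
      refine (Set.ncard_image_le (Set.toFinite _)).trans ?_
      rw [Set.ncard_prod, ← Nat.card_coe_set_eq, ← Nat.card_coe_set_eq]
      exact le_of_eq (congrArg₂ (· * ·) hP1 hP2)
    have hwC : ∀ c ∈ C, del (x1 * x2) c ∈ P := fun c hc => by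
      have e : del (x1 * x2) c = del x1 (x2 c) * del x2 c := by
        rw [del_apply, del_apply, del_apply, MulAut.mul_apply]
        rw [mul_assoc, ← mul_assoc (x2 c) (x2 c) c, hsq, one_mul]
      rw [e]
      exact mul_mem (le_sup_left (b := C.map (del x2)) ⟨x2 c, h2C c hc, rfl⟩)
        (le_sup_right (a := C.map (del x1)) ⟨c, hc, rfl⟩)
    have hzw : ∀ v, del z v = del (x1 * x2) (del (x1 * x2) v) := fun v => by
      rw [del_apply, del_apply, del_apply, map_mul,
        show (x1 * x2) ((x1 * x2) v) = z v from DFunLike.congr_fun H.wsq v,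
        mul_assoc, ← mul_assoc ((x1 * x2) v) ((x1 * x2) v) v, hsq, one_mul]
    have hzP : P ≤ (del z).ker := sup_le
      (fun v ⟨c, hc, e⟩ => e ▸ (mem_ker hsq).2 (H.quad x1 (Or.inl rfl) c).1)
      (fun v ⟨c, hc, e⟩ => e ▸ (mem_ker hsq).2 (H.quad x2 (Or.inr (Or.inl rfl)) c).1)
    have hz4 : Nat.card (C.map (del z)) = 4 := by
      have h := card_inf_split (F := (del z).ker) hd ht (split_ker hsq hd hzC hzW)
      rw [H.fz, show W ⊓ (del z).ker = W from le_antisymm inf_le_left
        (fun w hw => ⟨hw, (mem_ker hsq).2 (hzW' w hw)⟩), hW4] at h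
      have h' := card_map_del z C
      rw [show Nat.card (C ⊓ (del z).ker : Subgroup V) = 4 by omega] at h'
      rw [hW4] at hCW
      omega
    have hsub1 : C.map (del z) ≤ P.map (del (x1 * x2)) := by
      rintro _ ⟨c, hc, rfl⟩
      exact ⟨del (x1 * x2) c, hwC c hc, (hzw c).symm⟩
    have hsub2 : P.map (del (x1 * x2)) ≤ P := by
      rintro _ ⟨c, hc, rfl⟩
      exact hwC c (hPc hc)
    have hPeq : P.map (del (x1 * x2)) = P := eq_of_le_of_card_ge hsub2 (by
      have := card_le_of_le hsub1; omega)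
    have hbot : P.map (del (x1 * x2)) = ⊥ := by
      rw [eq_bot_iff]
      rintro _ ⟨p, hp, rfl⟩
      obtain ⟨p', hp', rfl⟩ := hPeq.ge hp
      rw [mem_bot, ← hzw]
      exact MonoidHom.mem_ker.1 (hzP hp')
    have h4 := card_le_of_le hsub1
    rw [hbot, card_bot] at h4
    omega
  · -- `z` inverts everything
    push Not at hz
    have hinv : ∀ a ∈ Y, z * a = a⁻¹ * z := fun a ha => by
      refine toInv H.z2 ?_
      by_contra h
      exact hz _ (mul_mem ha (hzY a ha)) (fun e => h (by rw [hYc _ (hzY a ha) _ ha]; exact e))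
        (toCen H.z2 (fixed H.z2 ha (hzY a ha)))
    obtain ⟨y0, hy0, hy01⟩ : ∃ a ∈ Y, a ≠ 1 := by
      obtain ⟨⟨a, ha⟩, ha1⟩ := ne_bot_iff_exists_ne_one.1 hY
      exact ⟨a, ha, fun e => ha1 (Subtype.ext e)⟩
    obtain ⟨y, hy, hy1, f, hf, hfy⟩ : ∃ y ∈ Y, y ≠ 1 ∧ ∃ f, (f = x1 ∨ f = x1 * z) ∧ f * y = y * f := by
      by_cases h : x1 * y0 * x1 * y0 = 1
      · refine ⟨y0, hy0, hy01, x1 * z, Or.inr rfl, ?_⟩
        have h' := toInv H.x12 h
        have h'' : x1 * y0⁻¹ = y0 * x1 := by
          calc x1 * y0⁻¹ = y0 * (y0⁻¹ * x1) * y0⁻¹ := by group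
            _ = y0 * x1 := by rw [← h']; group
        calc x1 * z * y0 = x1 * (z * y0) := mul_assoc _ _ _
          _ = (x1 * y0⁻¹) * z := by rw [hinv y0 hy0, mul_assoc]
          _ = y0 * (x1 * z) := by rw [h'', mul_assoc]
      · exact ⟨_, mul_mem hy0 (h1Y _ hy0), fun e => h (by rw [hYc _ (h1Y _ hy0) _ hy0]; exact e), x1,
          Or.inl rfl, toCen H.x12 (fixed H.x12 hy0 (h1Y _ hy0))⟩
    have hyq := hYq y hy
    have hf' : f = x1 ∨ f = x2 ∨ f = x1 * z := by tauto
    obtain ⟨hW4, -, hWz, himg⟩ := inverting hsq H.card hqo hyq hy1 H.z2 (hinv y hy) hfy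
      (fun v => (H.quad f hf' v).1) H.fz (H.fx f hf') (H.four f hf')
    set W := (del y).range with hW
    obtain ⟨⟨c0, hc0⟩, hc01⟩ : ∃ c : (W ⊓ (del z).ker : Subgroup V), c ≠ 1 :=
      ne_bot_iff_exists_ne_one.1 fun e => by rw [e, card_bot] at hWz; omega
    have hc01' : c0 ≠ 1 := fun e => hc01 (Subtype.ext e)
    obtain ⟨w0, hw0, hw0e⟩ := himg.ge hc0
    have hwc : (x1 * x2) c0 = c0 := by
      rw [← hw0e, MulAut.mul_apply, (H.zero w0).2, (H.zero w0).1]
    have hYW : ∀ a ∈ Y, ∀ v ∈ W, a v ∈ W := fun a ha =>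
      (invariant hsq (f := a) (y := y) (Or.inl (hYc a ha y hy))).2
    have hd : (del y).ker ⊓ W = ⊥ := disj hsq hqo hyq
    set w := x1 * x2 with hw
    set X := W ⊓ W.map w.toMonoidHom with hX
    have hwY : w⁻¹ * y * w ∈ Y := by
      rw [hw, mul_inv_rev, inv_eq_of_mul_eq_one_right H.x12, inv_eq_of_mul_eq_one_right H.x22,
        show x2 * x1 * y * (x1 * x2) = x2 * (x1 * y * x1) * x2 by group]
      exact h2Y _ (h1Y _ hy)
    have hXy : ∀ v ∈ X, y v ∈ X := by
      rintro _ ⟨hv, v, hvW, rfl⟩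
      refine ⟨hYW y hy _ hv, (w⁻¹ * y * w) v, hYW _ hwY v hvW, ?_⟩
      show w ((w⁻¹ * y * w) v) = y (w v)
      rw [← MulAut.mul_apply, ← MulAut.mul_apply, show w * (w⁻¹ * y * w) = y * w by group]
    have hXm := card_fix_mod hyq X hXy fun v hv e => by
      have : v ∈ (del y).ker ⊓ W := ⟨(mem_ker hsq).2 e, hv.1⟩
      rwa [hd, mem_bot] at this
    have hc0X : c0 ∈ X := ⟨hc0.1, c0, hc0.1, hwc⟩
    have hXW : X = W := by
      refine eq_of_le_of_card_ge inf_le_left ?_
      rw [hW4]
      have hX1 : Nat.card X ≠ 1 := fun e => hc01' (by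
        have h := card_eq_one.1 e
        rw [h] at hc0X
        exact mem_bot.1 hc0X)
      have hXd : Nat.card X ∣ 4 := hW4 ▸ card_dvd_of_le inf_le_left
      have := Nat.le_of_dvd (by norm_num) hXd
      by_contra hlt
      have h2 : Nat.card X = 2 := by
        interval_cases h : Nat.card X <;> first | omega | (norm_num at hXd; done)
      rw [h2] at hXm
      have := Nat.le_of_dvd (by norm_num) ((Nat.modEq_iff_dvd' (by norm_num)).1 hXm.symm)
      have := (Fact.out : q.Prime).two_le
      omega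
    have hwW : ∀ v ∈ W, w v ∈ W := by
      have h1 : W ≤ W.map w.toMonoidHom := hXW.ge.trans inf_le_right
      have h2 : W.map w.toMonoidHom = W := (eq_of_le_of_card_ge h1
        (card_map_of_injective w.injective).le).symm
      exact fun v hv => h2.le ⟨v, hv, rfl⟩
    obtain ⟨v, hv, hvz⟩ : ∃ v ∈ W, z v ≠ v := by
      by_contra hcon
      push Not at hcon
      have : W ⊓ (del z).ker = W := le_antisymm inf_le_left fun u hu =>
        ⟨hu, (mem_ker hsq).2 (hcon u hu)⟩
      rw [this, hW4] at hWz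
      omega
    have hzc0 : z c0 = c0 := (mem_ker hsq).1 hc0.2
    -- the four elements of `W`
    have hall : ∀ u ∈ W, u = 1 ∨ u = c0 ∨ u = v ∨ u = v * c0 := by
      intro u hu
      by_contra hcon
      push Not at hcon
      obtain ⟨h1, h2, h3, h4⟩ := hcon
      have hsub : ({1, c0, v, v * c0, u} : Finset V) ⊆ (Set.toFinite (W : Set V)).toFinset := by
        intro a ha
        rw [Set.Finite.mem_toFinset, SetLike.mem_coe]
        simp only [Finset.mem_insert, Finset.mem_singleton] at ha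
        rcases ha with rfl | rfl | rfl | rfl | rfl
        exacts [one_mem _, hc0.1, hv, mul_mem hv hc0.1, hu]
      have hcard := Finset.card_le_card hsub
      rw [← Set.ncard_eq_toFinset_card, ← Nat.card_coe_set_eq] at hcard
      have hv1 : v ≠ 1 := fun e => hvz (by rw [e, map_one])
      have hvc : v ≠ c0 := fun e => hvz (e ▸ hzc0)
      have hvc1 : v * c0 ≠ 1 := fun e => hvc (by
        rw [mul_eq_one_iff_eq_inv, inv_eq_of_mul_eq_one_right (hsq c0)] at e; exact e)
      have hvc2 : v * c0 ≠ c0 := fun e => hv1 (mul_eq_right.1 e)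
      have hvc3 : v * c0 ≠ v := fun e => hc01' (mul_eq_left.1 e)
      rw [Finset.card_insert_of_notMem, Finset.card_insert_of_notMem, Finset.card_insert_of_notMem,
        Finset.card_insert_of_notMem, Finset.card_singleton] at hcard
      · have e4 : Nat.card ((W : Subgroup V) : Set V) = 4 := hW4
        omega
      all_goals simp [hc01'.symm, hv1.symm, hvc.symm, hvc1.symm, hvc2.symm, hvc3.symm, h1.symm,
        h2.symm, h3.symm, h4.symm]
    apply hvz
    have hzv : z v = w (w v) := (DFunLike.congr_fun H.wsq v).symm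
    rw [hzv]
    rcases hall _ (hwW v hv) with h | h | h | h
    · exact absurd (w.injective (h.trans (map_one w).symm)) fun e => hvz (by rw [e, map_one])
    · exact absurd (w.injective (h.trans hwc.symm)) fun e => hvz (e ▸ hzc0)
    · rw [h, h]
    · rw [h, map_mul, hwc, h, mul_assoc, hsq, mul_one]

end Cfsg.Agent.Lib.M24Type70
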