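import Cfsg.Agent.Lib.Fusion.Alperin

/-!
# An involution outside a subgroup controlling the normalisers of 2-subgroups
-/

set_option autoImplicit false

namespace Cfsg.Agent.Lib.M24Type70

open Cfsg.Agent.Lib.Fusion.Alperin Subgroup

variable {X : Type*} [Group X] [Finite X]

/-- A subgroup controlling the normalisers of nontrivial subgroups of a Sylow 2-subgroup inside
it misses an involution whose products with those of the Sylow subgroup have odd order. -/
theorem exists_outside_involution (H : Subgroup X) (hH : H ≠ ⊤) (T : Sylow 2 X)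
    (hT : (T : Subgroup X) ≤ H) (hne : (T : Subgroup X) ≠ ⊥)
    (hN : ∀ P0 : Subgroup X, P0 ≤ T → P0 ≠ ⊥ → normalizer (P0 : Set X) ≤ H) :
    ∃ j : X, j ∉ H ∧ j * j = 1 ∧ ∀ t ∈ (T : Subgroup X), t * t = 1 → t ≠ 1 →
      ∃ m : ℕ, Odd m ∧ (t * j) ^ m = 1 := by
  classical
  haveI : Fact (Nat.Prime 2) := ⟨Nat.prime_two⟩
  have hCT : ∀ t ∈ (T : Subgroup X), t ≠ 1 → ∀ c, Commute c t → c ∈ H := fun t ht ht1 c hc => by
    refine hN (zpowers t) (zpowers_le.2 ht) (by rwa [ne_eq, zpowers_eq_bot]) ?_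
    apply mem_normalizer_of_conjS_eq
    rw [conjS, MonoidHom.map_zpowers]
    simp [hc.eq]
  have hC : ∀ t ∈ H, t * t = 1 → t ≠ 1 → ∀ c, Commute c t → c ∈ H := fun t htH ht2 ht1 c hc => by
    obtain ⟨h, hh, hle⟩ := exists_conj_le_of_maximal T.2 hT (fun U hU _ hle => T.3 hU hle)
      (T := zpowers t) (IsPGroup.of_card (n := 1) (by
        rw [Nat.card_zpowers, pow_one]
        exact orderOf_eq_prime (by rw [pow_two]; exact ht2) ht1)) (zpowers_le.2 htH)
    have ht' : h * t * h⁻¹ ∈ (T : Subgroup X) := hle (conj_mem_conjS (mem_zpowers t))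
    have hc' : h * c * h⁻¹ ∈ H := hCT _ ht' (fun e => ht1 (by simpa [conj_eq_one_iff] using e)) _ (by
      simp only [Commute, SemiconjBy]
      calc h * c * h⁻¹ * (h * t * h⁻¹) = h * (c * t) * h⁻¹ := by group
        _ = h * (t * c) * h⁻¹ := by rw [hc.eq]
        _ = _ := by group)
    simpa [mul_assoc] using mul_mem (mul_mem (inv_mem hh) hc') hh
  obtain ⟨t0, ht0, ht02, ht01⟩ : ∃ t ∈ (T : Subgroup X), t * t = 1 ∧ t ≠ 1 := by
    obtain ⟨n, hn⟩ := IsPGroup.iff_card.1 T.2
    have hdvd : 2 ∣ Nat.card (T : Subgroup X) := by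
      rcases Nat.eq_zero_or_pos n with rfl | hn0
      · exact absurd (card_eq_one.1 (by simpa using hn)) hne
      · exact hn ▸ dvd_pow_self 2 hn0.ne'
    obtain ⟨t, ht⟩ := exists_prime_orderOf_dvd_card' 2 hdvd
    refine ⟨t, t.2, ?_, fun e => ?_⟩
    · have h2 := pow_orderOf_eq_one t
      rw [ht, pow_two] at h2
      exact congrArg Subtype.val h2
    · rw [show t = 1 from Subtype.ext e, orderOf_one] at ht
      omega
  obtain ⟨j, hjH, hj2⟩ : ∃ j, j ∉ H ∧ j * j = 1 := by
    by_contra hcon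
    push Not at hcon
    let D : Subgroup X := normalClosure {t0}
    have hDH : D ≤ H := by
      refine (closure_le H).2 fun y hy => ?_
      obtain ⟨s, hs, hsy⟩ := Group.mem_conjugatesOfSet_iff.1 hy
      obtain ⟨c, hc⟩ := isConj_iff.1 hsy
      rw [Set.mem_singleton_iff] at hs
      subst hs
      by_contra hyH
      refine hcon y hyH ?_
      rw [← hc]
      calc c * s * c⁻¹ * (c * s * c⁻¹) = c * (s * s) * c⁻¹ := by group
        _ = 1 := by rw [ht02]; group
    have hDn : D.Normal := normalClosure_normal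
    let T1 : Subgroup X := T ⊓ D
    have hmax : ∀ U : Subgroup X, IsPGroup 2 U → U ≤ D → T1 ≤ U → U = T1 := by
      intro U hU hUD hle
      obtain ⟨x, -, hx⟩ := exists_conj_le_of_maximal T.2 le_top (fun V hV _ h => T.3 hV h) hU le_top
      have h1 : conjS x U ≤ T1 := le_inf hx fun y hy => by
        obtain ⟨u, hu, rfl⟩ := hy
        exact hDn.conj_mem u (hUD hu) x
      have hc := card_le_of_le h1
      rw [card_conjS] at hc
      exact (eq_of_le_of_card_ge hle hc).symm
    have hT1 : T1 ≠ ⊥ := fun e => ht01 (by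
      have : t0 ∈ T1 := ⟨ht0, subset_normalClosure (Set.mem_singleton t0)⟩
      rwa [e, mem_bot] at this)
    refine hH (eq_top_iff.2 fun n _ => ?_)
    have hnT : conjS n T1 ≤ D := fun y hy => by
      obtain ⟨u, hu, rfl⟩ := hy
      exact hDn.conj_mem u hu.2 n
    have hT1p : IsPGroup 2 T1 := T.2.to_le inf_le_left
    have hnTp : IsPGroup 2 (conjS n T1) := hT1p.map _
    obtain ⟨d, hd, hdn⟩ := exists_conj_le_of_maximal hT1p inf_le_right hmax hnTp hnT
    rw [← conjS_mul] at hdn
    have := hN T1 inf_le_left hT1 (mem_normalizer_of_conjS_eq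
      (eq_of_le_of_card_ge hdn (card_conjS _ _).ge))
    simpa using mul_mem (inv_mem (hDH hd)) this
  refine ⟨j, hjH, hj2, fun t ht ht2 ht1 => ⟨orderOf (t * j), ?_, pow_orderOf_eq_one _⟩⟩
  by_contra hev
  rw [Nat.not_odd_iff_even] at hev
  obtain ⟨k, hk⟩ := hev
  have hpos := orderOf_pos (t * j)
  have hc1 : (t * j) ^ k ≠ 1 := pow_ne_one_of_lt_orderOf (by omega) (by omega)
  have hc2 : (t * j) ^ k * (t * j) ^ k = 1 := by rw [← pow_add, ← hk, pow_orderOf_eq_one]
  have hci : ((t * j) ^ k)⁻¹ = (t * j) ^ k := inv_eq_of_mul_eq_one_right hc2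
  have htinv : t⁻¹ = t := inv_eq_of_mul_eq_one_right ht2
  have hjinv : j⁻¹ = j := inv_eq_of_mul_eq_one_right hj2
  have hcomm : ∀ s : X, s⁻¹ = s → s * (t * j) * s⁻¹ = (t * j)⁻¹ → Commute ((t * j) ^ k) s := by
    intro s hs e
    have h := congrArg (· ^ k) e
    rw [conj_pow, inv_pow, hci, hs] at h
    show _ * s = s * _
    calc (t * j) ^ k * s = s * (t * j) ^ k * s * s := by rw [h]
      _ = s * (t * j) ^ k * (s * s) := by group
      _ = s * (t * j) ^ k := by rw [show s * s = 1 from by nth_rw 1 [← hs]; simp, mul_one]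
  have hct : Commute ((t * j) ^ k) t := hcomm t htinv (by
    rw [mul_inv_rev, hjinv, htinv]
    calc t * (t * j) * t = (t * t) * j * t := by group
      _ = j * t := by rw [ht2, one_mul])
  have hcj : Commute ((t * j) ^ k) j := hcomm j hjinv (by
    rw [mul_inv_rev, hjinv, htinv]
    calc j * (t * j) * j = j * t * (j * j) := by group
      _ = j * t := by rw [hj2, mul_one])
  exact hjH (hC _ (hCT t ht ht1 _ hct) hc2 hc1 j hcj.symm)

end Cfsg.Agent.Lib.M24Type70
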