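import Cfsg.Agent.Lib.M24Type70.Final
import Cfsg.Agent.Lib.M24Type70.Outside

/-!
# The abelian subgroup of order 64 is strongly closed

A maximal subgroup of the Sylow 2-subgroup whose normalizer moves an element into or out of the
abelian subgroup would give the contradictory configuration of `final_false`.
-/

set_option autoImplicit false

namespace Cfsg.Agent.Lib.M24Type70

open Cfsg.Agent.Lib.Fusion.Alperin Subgroup
open scoped Pointwise

variable {G : Type*} [Group G]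

/-- Conjugation by `n` keeps membership in `A` of the elements of `R`. -/
def Keeps (A R : Subgroup G) (n : G) : Prop := ∀ x ∈ R, x ∈ A ↔ n * x * n⁻¹ ∈ A

/-- The elements of the normalizer of `R` keeping membership in `A`. -/
def keeper (A R : Subgroup G) : Subgroup G where
  carrier := {n | n ∈ normalizer (R : Set G) ∧ Keeps A R n}
  one_mem' := ⟨one_mem _, fun x _ => by simp⟩
  mul_mem' := by
    rintro m n ⟨hm, hm'⟩ ⟨hn, hn'⟩
    refine ⟨mul_mem hm hn, fun x hx => ?_⟩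
    rw [show m * n * x * (m * n)⁻¹ = m * (n * x * n⁻¹) * m⁻¹ by group]
    exact (hn' x hx).trans (hm' _ ((mem_normalizer_iff.1 hn x).1 hx))
  inv_mem' := by
    rintro n ⟨hn, hn'⟩
    refine ⟨inv_mem hn, fun x hx => ?_⟩
    rw [hn' _ ((mem_normalizer_iff.1 (inv_mem hn) x).1 hx),
      show n * (n⁻¹ * x * n⁻¹⁻¹) * n⁻¹ = x by group]

variable [Finite G]

theorem chain_keeps {P A : Subgroup G} {N : ℕ}
    (hbig : ∀ R : Subgroup G, R ≤ P → N < Nat.card R → ∀ n ∈ normalizer (R : Set G), Keeps A R n)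
    {B : Subgroup G} {g : G} (h : FusionChain 2 P B g) (hB : N < Nat.card B) : Keeps A B g := by
  induction h with
  | base hR hAR hn =>
    exact fun x hx => hbig _ hR.1 (hB.trans_le (card_le_of_le hAR)) _ hn x (hAR hx)
  | @comp B g₁ g₂ _ _ ih₁ ih₂ =>
    intro x hx
    rw [show g₂ * g₁ * x * (g₂ * g₁)⁻¹ = g₂ * (g₁ * x * g₁⁻¹) * g₂⁻¹ by group]
    exact (ih₁ hB x hx).trans (ih₂ (by rwa [card_conjS]) _ (conj_mem_conjS hx))

variable [Fact (Nat.Prime 2)] {P : Sylow 2 G} {A : Subgroup G} {z x1 x2 : G}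

theorem eq_A_of_conj (C : Cert (P : Subgroup G) A z x1 x2) (n : G)
    (h : conjS n A ≤ P) : conjS n A = A := by
  refine C.uniq _ h ⟨⟨fun a b => Subtype.ext ?_⟩⟩ (by rw [card_conjS, C.card])
  obtain ⟨x, hx, ex⟩ := a.2
  obtain ⟨y, hy, ey⟩ := b.2
  show (a : G) * b = b * a
  rw [← ex, ← ey]
  exact ((C.comm hx hy).map _).eq

theorem keeps_of_le (C : Cert (P : Subgroup G) A z x1 x2) {R : Subgroup G} (hA : A ≤ R)
    (hR : R ≤ P) {n : G} (hn : n ∈ normalizer (R : Set G)) : Keeps A R n := by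
  have he := eq_A_of_conj C n (((conjS_mono hA).trans (conjS_eq_of_mem_normalizer hn).le).trans hR)
  intro x _
  refine ⟨fun hx => he.le (conj_mem_conjS hx), fun hx => ?_⟩
  simpa [mul_assoc] using mem_conjS.1 (he.ge hx)

theorem not_moving (C : Cert (P : Subgroup G) A z x1 x2) (R : Subgroup G) (hRP : R ≤ P)
    (hfn : IsFullyNormalized 2 (P : Subgroup G) R)
    (hbig : ∀ R' : Subgroup G, R' ≤ P → Nat.card R < Nat.card R' →
      ∀ n ∈ normalizer (R' : Set G), Keeps A R' n)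
    {n0 : G} (hn0 : n0 ∈ normalizer (R : Set G)) (hmov : ¬ Keeps A R n0) : False := by
  classical
  have hAR : ¬ A ≤ R := fun h => hmov (keeps_of_le C h hRP hn0)
  have hRlt : R < (P : Subgroup G) := lt_of_le_of_ne hRP fun h => hAR (h ▸ C.le)
  have hRT : R < (P : Subgroup G) ⊓ normalizer (R : Set G) := lt_inf_normalizer P.2 hRlt
  set N := normalizer (R : Set G) with hNdef
  set T := (P : Subgroup G) ⊓ N with hTdef
  set Q := R ⊔ centralizer (R : Set G) with hQdef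
  have hTp : IsPGroup 2 T := P.2.to_le inf_le_left
  have hmaxT : ∀ U : Subgroup G, IsPGroup 2 U → U ≤ N → T ≤ U → U = T := hfn
  set H := keeper A R with hHdef
  have hHN : H ≤ N := fun n hn => hn.1
  have hTH : T ≤ H := fun t ht => ⟨ht.2, fun x _ => by
    refine ⟨fun hx => C.normal t ht.1 x hx, fun hx => ?_⟩
    have := C.normal t⁻¹ (inv_mem ht.1) _ hx
    simpa [mul_assoc] using this⟩
  have hCN : centralizer (R : Set G) ≤ N := centralizer_le_normalizer _
  have hCH : centralizer (R : Set G) ≤ H := fun c hc => ⟨hCN hc, fun x hx => by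
    rw [← mem_centralizer_iff.1 hc x hx, mul_inv_cancel_right]⟩
  have hRH : R ≤ H := hRT.le.trans hTH
  have hQH : Q ≤ H := sup_le hRH hCH
  have hQN : Q ≤ N := hQH.trans hHN
  have hNQ : ∀ n ∈ N, conjS n Q = Q := by
    intro n hn
    refine eq_of_le_of_card_ge ?_ (card_conjS n Q).ge
    rw [hQdef, show conjS n (R ⊔ centralizer (R : Set G)) =
      conjS n R ⊔ conjS n (centralizer (R : Set G)) from Subgroup.map_sup _ _ _,
      conjS_eq_of_mem_normalizer hn]
    refine sup_le_sup le_rfl ?_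
    rintro _ ⟨c, hc, rfl⟩
    refine mem_centralizer_iff.2 fun x hx => ?_
    have hx' : n⁻¹ * x * n ∈ R := by
      simpa using (mem_normalizer_iff.1 (inv_mem hn) x).1 hx
    have h := mem_centralizer_iff.1 hc _ hx'
    show x * (n * c * n⁻¹) = n * c * n⁻¹ * x
    calc x * (n * c * n⁻¹) = n * (n⁻¹ * x * n * c) * n⁻¹ := by group
      _ = n * (c * (n⁻¹ * x * n)) * n⁻¹ := by rw [h]
      _ = _ := by group
  have hTQmax : ∀ U : Subgroup G, IsPGroup 2 U → U ≤ Q → T ⊓ Q ≤ U → U = T ⊓ Q := by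
    intro U hU hUQ hle
    obtain ⟨n, hn, hnU⟩ := exists_conj_le_of_maximal hTp inf_le_right hmaxT hU (hUQ.trans hQN)
    have hle' : conjS n U ≤ T ⊓ Q := le_inf hnU ((conjS_mono hUQ).trans (hNQ n hn).le)
    have h1 := card_le_of_le hle'
    rw [card_conjS] at h1
    exact (eq_of_le_of_card_ge hle h1).symm
  have frattini : ∀ P1 L : Subgroup G, P1 ≤ T → R < P1 → P1 ≤ L → L ≤ H →
      (∀ U : Subgroup G, IsPGroup 2 U → U ≤ L → P1 ≤ U → U = P1) →
      ∀ n ∈ N, conjS n P1 ≤ L → n ∈ H := by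
    intro P1 L hP1 hlt hPL hLH hmax n hn hnL
    have hp1 : IsPGroup 2 P1 := hTp.to_le hP1
    have hp2 : IsPGroup 2 (conjS n P1) := hp1.map _
    obtain ⟨l, hl, hle⟩ := exists_conj_le_of_maximal hp1 hPL hmax hp2 hnL
    rw [← conjS_mul] at hle
    have hln : l * n ∈ normalizer (P1 : Set G) :=
      mem_normalizer_of_conjS_eq (eq_of_le_of_card_ge hle (card_conjS _ _).ge)
    have hk := hbig P1 (hP1.trans inf_le_left) (lt_of_le_of_ne (card_le_of_le hlt.le)
      (fun e => hlt.ne (eq_of_le_of_card_ge hlt.le e.ge))) _ hln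
    have hlnH : l * n ∈ H := ⟨mul_mem (hHN (hLH hl)) hn, fun x hx => hk x (hlt.le hx)⟩
    simpa using mul_mem (inv_mem (hLH hl)) hlnH
  have hTQ : T ⊓ Q = R := by
    by_contra hne
    have hle : R ≤ T ⊓ Q := le_inf hRT.le le_sup_left
    have hall : N ≤ H := fun n hn => frattini (T ⊓ Q) Q inf_le_left (lt_of_le_of_ne hle (Ne.symm hne))
      inf_le_right hQH hTQmax n hn ((conjS_mono inf_le_right).trans (hNQ n hn).le)
    exact hmov (hall hn0).2
  -- the quotient by `Q`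
  haveI hQn : (Q.subgroupOf N).Normal := ⟨fun q hq n => by
    rw [mem_subgroupOf] at hq ⊢
    exact (hNQ n n.2).le (conj_mem_conjS hq)⟩
  let mk : N →* N ⧸ Q.subgroupOf N := QuotientGroup.mk' _
  have hmk : ∀ u : N, mk u = 1 ↔ (u : G) ∈ Q := fun u => by
    simp only [mk, QuotientGroup.mk'_apply, QuotientGroup.eq_one_iff, mem_subgroupOf]
  have hker : mk.ker ≤ H.subgroupOf N := fun u hu =>
    mem_subgroupOf.2 (hQH ((hmk u).1 hu))
  let TS : Sylow 2 N :=
    { toSubgroup := T.subgroupOf N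
      isPGroup' := hTp.comap_subtype
      is_maximal' := fun {U} hU hle => by
        have h := hmaxT (U.map N.subtype) (hU.map _) (map_subtype_le _)
          (fun t ht => ⟨⟨t, ht.2⟩, hle (mem_subgroupOf.2 ht), rfl⟩)
        ext u
        rw [mem_subgroupOf, ← h]
        exact ⟨fun hu => ⟨u, hu, rfl⟩, fun ⟨u', hu', e⟩ => Subtype.ext e ▸ hu'⟩ }
  let TX : Sylow 2 (N ⧸ Q.subgroupOf N) := TS.mapSurjective (QuotientGroup.mk'_surjective _)
  have hTX : ∀ x ∈ (TX : Subgroup (N ⧸ Q.subgroupOf N)), ∃ u : N, (u : G) ∈ T ∧ mk u = x := fun x hx => by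
    obtain ⟨u, hu, rfl⟩ := hx
    exact ⟨u, mem_subgroupOf.1 hu, rfl⟩
  set HX := (H.subgroupOf N).map mk with hHX
  have hmemHX : ∀ u : N, mk u ∈ HX ↔ (u : G) ∈ H := fun u => by
    refine ⟨fun h => ?_, fun h => ⟨u, mem_subgroupOf.2 h, rfl⟩⟩
    have h' : u ∈ HX.comap mk := h
    rw [hHX, comap_map_eq_self hker] at h'
    exact mem_subgroupOf.1 h'
  have hHne : HX ≠ ⊤ := fun e => hmov ((hmemHX ⟨n0, hn0⟩).1 (e ▸ mem_top _)).2
  have hTle : (TX : Subgroup (N ⧸ Q.subgroupOf N)) ≤ HX := fun x hx => by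
    obtain ⟨u, hu, rfl⟩ := hTX x hx
    exact (hmemHX u).2 (hTH hu)
  have hTne : (TX : Subgroup (N ⧸ Q.subgroupOf N)) ≠ ⊥ := by
    intro e
    obtain ⟨t, ht, htR⟩ := SetLike.exists_of_lt hRT
    have hm : mk ⟨t, ht.2⟩ ∈ (TX : Subgroup (N ⧸ Q.subgroupOf N)) := ⟨⟨t, ht.2⟩, mem_subgroupOf.2 ht, rfl⟩
    rw [e, mem_bot] at hm
    exact htR (hTQ ▸ ⟨ht, (hmk _).1 hm⟩)
  have hNle : ∀ P0 : Subgroup (N ⧸ Q.subgroupOf N), P0 ≤ (TX : Subgroup (N ⧸ Q.subgroupOf N)) → P0 ≠ ⊥ →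
      normalizer (P0 : Set (N ⧸ Q.subgroupOf N)) ≤ HX := by
    intro P0 hP0 hne x hx
    obtain ⟨n, rfl⟩ := QuotientGroup.mk'_surjective _ x
    let L : Subgroup G := (P0.comap mk).map N.subtype
    set P1 := T ⊓ L with hP1
    have hQL : Q ≤ L := fun q hq => ⟨⟨q, hQN hq⟩, by
      show mk ⟨q, hQN hq⟩ ∈ P0
      rw [(hmk _).2 hq]; exact one_mem _, rfl⟩
    have hdec : ∀ l ∈ L, ∃ p ∈ P1, ∃ q ∈ Q, l = p * q := by
      rintro _ ⟨u, hu, rfl⟩
      obtain ⟨t, ht, htu⟩ := hTX _ (hP0 hu)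
      refine ⟨t, ⟨ht, t, by show mk t ∈ P0; rw [htu]; exact hu, rfl⟩, (t⁻¹ * u : N), ?_, by simp⟩
      rw [← hmk, map_mul, map_inv, htu, inv_mul_cancel]
    have hLH : L ≤ H := fun l hl => by
      obtain ⟨p, hp, q, hq, rfl⟩ := hdec l hl
      exact mul_mem (hTH hp.1) (hQH hq)
    have hlt : R < P1 := by
      refine lt_of_le_of_ne (le_inf hRT.le ((le_sup_left (b := centralizer (R : Set G))).trans hQL))
        fun e => hne ((eq_bot_iff_forall _).2 fun y hy => ?_)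
      obtain ⟨u, hu, rfl⟩ := hTX y (hP0 hy)
      have huP : (u : G) ∈ P1 := ⟨hu, u, hy, rfl⟩
      rw [← e] at huP
      exact (hmk u).2 ((le_sup_left (b := centralizer (R : Set G))) huP)
    have hmax : ∀ U : Subgroup G, IsPGroup 2 U → U ≤ L → P1 ≤ U → U = P1 := by
      intro U hU hUL hle
      have hUQ : U ⊓ Q = T ⊓ Q := hTQmax _ (hU.to_le inf_le_left) inf_le_right
        (le_inf ((le_inf inf_le_left (inf_le_right.trans hQL)).trans hle) inf_le_right)
      refine le_antisymm (fun u hu => ?_) hle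
      obtain ⟨p, hp, q, hq, rfl⟩ := hdec u (hUL hu)
      have hqU : q ∈ U ⊓ Q := ⟨by simpa using mul_mem (inv_mem (hle hp)) hu, hq⟩
      rw [hUQ] at hqU
      exact mul_mem hp ⟨hqU.1, hQL hqU.2⟩
    refine (hmemHX n).2 (frattini P1 L inf_le_left hlt inf_le_right hLH hmax n n.2 ?_)
    rintro _ ⟨p, ⟨-, u, hu, rfl⟩, rfl⟩
    refine ⟨n * u * n⁻¹, ?_, by simp⟩
    show mk (n * u * n⁻¹) ∈ P0
    rw [map_mul, map_mul, map_inv]
    exact (mem_normalizer_iff.1 hx _).1 hu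
  obtain ⟨j, hjH, hj2, hjodd⟩ := exists_outside_involution HX hHne TX hTle hTne hNle
  obtain ⟨g, rfl⟩ := QuotientGroup.mk'_surjective _ j
  have hgH : (g : G) ∉ H := fun h => hjH ((hmemHX g).2 h)
  refine final_false C hRP hAR g.2 ?_ (fun hgB => hgH ⟨g.2, fun x hx => ?_⟩) ?_
  · have : mk (g * g) = 1 := by rw [map_mul]; exact hj2
    exact (hmk _).1 this
  · have hgx := (mem_normalizer_iff.1 g.2 x).1 hx
    refine ⟨fun hxA => (hgB.le (conj_mem_conjS (⟨hx, hxA⟩ : x ∈ R ⊓ A))).2, fun hgA => ?_⟩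
    have h := mem_conjS.1 (hgB.ge (⟨hgx, hgA⟩ : _ ∈ R ⊓ A))
    rw [show (g : G)⁻¹ * ((g : G) * x * (g : G)⁻¹) * g = x by group] at h
    exact h.2
  · intro a ha haN haR
    have haT : a ∈ T := ⟨C.le ha, haN⟩
    have hmT : mk ⟨a, haN⟩ ∈ (TX : Subgroup (N ⧸ Q.subgroupOf N)) := ⟨⟨a, haN⟩, mem_subgroupOf.2 haT, rfl⟩
    have h2 : mk ⟨a, haN⟩ * mk ⟨a, haN⟩ = 1 := by
      rw [← map_mul, hmk]
      show a * a ∈ Q
      rw [C.sq a ha]; exact one_mem _
    have h1 : mk ⟨a, haN⟩ ≠ 1 := fun e => haR (hTQ ▸ ⟨haT, (hmk _).1 e⟩)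
    obtain ⟨m, hm, he⟩ := hjodd _ hmT h2 h1
    refine ⟨m, hm, ?_⟩
    have : mk ((⟨a, haN⟩ * g) ^ m) = 1 := by rw [map_pow, map_mul]; exact he
    simpa using (hmk _).1 this

theorem keeps_all (C : Cert (P : Subgroup G) A z x1 x2) (R : Subgroup G) (hRP : R ≤ P) :
    ∀ n ∈ normalizer (R : Set G), Keeps A R n := by
  induction hd : Nat.card G - Nat.card R using Nat.strong_induction_on generalizing R with
  | _ d ih =>
  subst hd
  have hbig : ∀ R' : Subgroup G, R' ≤ P → Nat.card R < Nat.card R' →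
      ∀ n ∈ normalizer (R' : Set G), Keeps A R' n := by
    intro R' hR' hlt
    refine ih _ ?_ R' hR' rfl
    have := card_le_card_group R'
    omega
  intro n hn
  by_contra hmov
  have hAR : ¬ A ≤ R := fun h => hmov (keeps_of_le C h hRP hn)
  have hRlt : R < (P : Subgroup G) := lt_of_le_of_ne hRP fun h => hAR (h ▸ C.le)
  have hlt := lt_inf_normalizer P.2 hRlt
  obtain ⟨k, hkR, hkN, hkfn⟩ := exists_fullyNormalized P R hRP
  have hk : Keeps A ((P : Subgroup G) ⊓ normalizer (R : Set G)) k := by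
    refine chain_keeps hbig (alperin P _ k inf_le_left hkN) ?_
    exact lt_of_le_of_ne (card_le_of_le hlt.le) fun e => hlt.ne (eq_of_le_of_card_ge hlt.le e.ge)
  have hkeep : ∀ x ∈ R, x ∈ A ↔ k * x * k⁻¹ ∈ A := fun x hx => hk x (hlt.le hx)
  refine not_moving C (conjS k R) hkR hkfn (by rw [card_conjS]; exact hbig)
    (mem_normalizer_conjS (g := k) hn) fun hK => hmov fun x hx => ?_
  have h := hK _ (conj_mem_conjS hx)
  rw [show k * n * k⁻¹ * (k * x * k⁻¹) * (k * n * k⁻¹)⁻¹ = k * (n * x * n⁻¹) * k⁻¹ by group] at h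
  rw [hkeep x hx, h]
  exact (hkeep _ ((mem_normalizer_iff.1 hn x).1 hx)).symm

/-- The abelian subgroup of order 64 is strongly closed. -/
theorem strongly_closed (C : Cert (P : Subgroup G) A z x1 x2) {x g : G} (hx : x ∈ A)
    (hgx : g * x * g⁻¹ ∈ (P : Subgroup G)) : g * x * g⁻¹ ∈ A :=
  fusion_invariant P (· ∈ A) (fun R hR n hn y hy hyA => ((keeps_all C R hR.1 n hn) y hy).1 hyA)
    x g (C.le hx) hgx hx

end Cfsg.Agent.Lib.M24Type70
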