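import Cfsg.Agent.Lib.M24Type70.Model
import Cfsg.Agent.Lib.M24Type70.StrongClosure
import Cfsg.Agent.Lib.M24Type70.NoOdd
import Cfsg.Agent.Lib.GoldStructure10.Main
import Cfsg.Agent.Lib.FpfHeight.Abelian

/-!
# The abelian subgroup of order 64 is normal

Goldschmidt's theorem makes it a Sylow 2-subgroup of its normal closure, whose automizer would be
of odd order and normalized by the Sylow 2-subgroup of the group.
-/

set_option autoImplicit false
set_option linter.style.haveILetI false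

universe u

namespace Cfsg.Agent.Lib.M24Type70

open Subgroup Cfsg.Agent.Lib.Fusion.Alperin
open scoped IsMulCommutative

variable {G : Type u} [Group G]

theorem act_of_cert [Finite G] {S A : Subgroup G} {z x1 x2 : G} (C : Cert S A z x1 x2)
    [IsMulCommutative A] {Z X1 X2 : normalizer (A : Set G)} (hZ : (Z : G) = z) (h1 : (X1 : G) = x1)
    (h2 : (X2 : G) = x2) :
    Act (A.normalizerMonoidHom Z) (A.normalizerMonoidHom X1) (A.normalizerMonoidHom X2) := by
  set ρ := A.normalizerMonoidHom with hρ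
  have happ : ∀ (n : normalizer (A : Set G)) (a : A), ((ρ n a : A) : G) = n * a * (n : G)⁻¹ :=
    fun n a => rfl
  have hone : ∀ n : normalizer (A : Set G), (n : G) ∈ A → ρ n = 1 := fun n hn =>
    MulEquiv.ext fun a => Subtype.ext (by
      rw [happ, (C.comm hn a.2).eq, mul_inv_cancel_right]; rfl)
  have heq : ∀ m n : normalizer (A : Set G), (m : G)⁻¹ * n ∈ A → ρ m = ρ n := fun m n h => by
    have := hone (m⁻¹ * n) h
    rwa [map_mul, map_inv, inv_mul_eq_one] at this
  have hsq : ∀ a : A, a * a = 1 := fun a => Subtype.ext (C.sq a a.2)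
  have hker : ∀ n : normalizer (A : Set G), (del (ρ n)).ker =
      (A ⊓ centralizer ({(n : G)} : Set G)).subgroupOf A := fun n => by
    ext a
    rw [mem_ker hsq, mem_subgroupOf, Subgroup.mem_inf, mem_centralizer_singleton_iff, Subtype.ext_iff,
      happ, mul_inv_eq_iff_eq_mul]
    exact ⟨fun h => ⟨a.2, h.symm⟩, fun h => h.2.symm⟩
  have hx1z : InvMod2 A z (x1 * z) := by
    have hn := C.normal z C.z_mem
    have hn' : ∀ a ∈ A, z⁻¹ * a * z ∈ A := fun a ha => by
      simpa using C.normal z⁻¹ (inv_mem C.z_mem) a ha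
    refine ⟨⟨fun h => C.x1_inv.2 ?_, ?_⟩, fun h => C.x1_inv.1.1 ?_⟩
    · have hh := mul_mem (hn' _ h) (inv_mem C.z_inv.2)
      rwa [show z⁻¹ * (x1 * z) * z * (z * z)⁻¹ = z⁻¹ * x1 by group] at hh
    · have hc := C.z_central x1 C.x1_mem
      have e : x1 * z * (x1 * z) = x1 * (z * x1 * z⁻¹ * x1⁻¹) * x1⁻¹ * (x1 * x1) * (z * z) := by group
      rw [e]
      exact mul_mem (mul_mem (C.normal x1 C.x1_mem _ hc) C.x1_inv.1.2) C.z_inv.2
    · have hh := hn _ h
      rwa [show z * (z⁻¹ * (x1 * z)) * z⁻¹ = x1 by group] at hh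
  -- the three reflections used
  have cases : ∀ f, (f = ρ X1 ∨ f = ρ X2 ∨ f = ρ X1 * ρ Z) → ∃ n : normalizer (A : Set G),
      f = ρ n ∧ (n : G) ∈ S ∧ InvMod2 A z (n : G) := by
    rintro f (rfl | rfl | rfl)
    · exact ⟨X1, rfl, h1.symm ▸ C.x1_mem, h1.symm ▸ C.x1_inv⟩
    · exact ⟨X2, rfl, h2.symm ▸ C.x2_mem, h2.symm ▸ C.x2_inv⟩
    · refine ⟨X1 * Z, (map_mul ρ X1 Z).symm, ?_, ?_⟩
      · rw [Subgroup.coe_mul, h1, hZ]; exact mul_mem C.x1_mem C.z_mem
      · rw [Subgroup.coe_mul, h1, hZ]; exact hx1z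
  have hquad : ∀ (m n : normalizer (A : Set G)) (a : A),
      Commute (m : G) ((n : G) * a * (n : G)⁻¹ * a) → ρ m (del (ρ n) a) = del (ρ n) a := by
    intro m n a h
    apply Subtype.ext
    rw [happ]
    show (m : G) * ((n : G) * a * (n : G)⁻¹ * a) * (m : G)⁻¹ = (n : G) * a * (n : G)⁻¹ * a
    rw [h.eq, mul_inv_cancel_right]
  refine ⟨C.card, hsq, ?_, ?_, ?_, ?_, ?_, ?_, ?_, ?_, ?_, ?_, ?_⟩
  · rw [← map_mul]; exact hone _ (by rw [Subgroup.coe_mul, hZ]; exact C.z_inv.2)
  · rw [← map_mul]; exact hone _ (by rw [Subgroup.coe_mul, h1]; exact C.x1_inv.1.2)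
  · rw [← map_mul]; exact hone _ (by rw [Subgroup.coe_mul, h2]; exact C.x2_inv.1.2)
  · rw [← map_mul, ← map_mul]
    refine (heq _ _ ?_).symm
    rw [Subgroup.coe_mul, Subgroup.coe_mul, hZ, h1]
    have := C.normal (z * x1)⁻¹ (inv_mem (mul_mem C.z_mem C.x1_mem)) _ (C.z_central x1 C.x1_mem)
    convert this using 1
    group
  · rw [← map_mul, ← map_mul]
    refine (heq _ _ ?_).symm
    rw [Subgroup.coe_mul, Subgroup.coe_mul, hZ, h2]
    have := C.normal (z * x2)⁻¹ (inv_mem (mul_mem C.z_mem C.x2_mem)) _ (C.z_central x2 C.x2_mem)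
    convert this using 1
    group
  · rw [← map_mul, ← map_mul]
    refine (heq _ _ ?_).symm
    rw [Subgroup.coe_mul, Subgroup.coe_mul, hZ, h1, h2]
    exact C.w_sq
  · rw [hker, hZ, Nat.card_congr (subgroupOfEquivOfLe inf_le_left).toEquiv]
    exact C.cent z C.z_mem C.z_inv
  · intro f hf
    obtain ⟨n, rfl, hn, hI⟩ := cases f hf
    rw [hker, Nat.card_congr (subgroupOfEquivOfLe inf_le_left).toEquiv]
    exact C.cent _ hn hI.1
  · intro f hf
    obtain ⟨n, rfl, hn, hI⟩ := cases f hf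
    have e : (A ⊓ centralizer ({(n : G)} : Set G)).subgroupOf A ⊓
        (A ⊓ centralizer ({(Z : G)} : Set G)).subgroupOf A =
        (A ⊓ centralizer ({(n : G), z} : Set G)).subgroupOf A := by
      ext a
      simp only [Subgroup.mem_inf, mem_subgroupOf, Subgroup.mem_centralizer_iff, Set.mem_insert_iff,
        Set.mem_singleton_iff, forall_eq_or_imp, forall_eq, hZ]
      tauto
    rw [hker, hker, e, Nat.card_congr (subgroupOfEquivOfLe inf_le_left).toEquiv]
    exact C.four _ hn hI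
  · intro f hf a
    obtain ⟨n, rfl, hn, hI⟩ := cases f hf
    have hc := C.z_central _ hn
    refine ⟨hquad Z n a ?_, hquad n Z a ?_⟩
    · rw [hZ]; exact C.quad z C.z_mem C.z_inv _ hn hc a a.2
    · rw [hZ]
      refine C.quad _ hn hI.1 z C.z_mem ?_ a a.2
      rw [show (n : G) * z * (n : G)⁻¹ * z⁻¹ = (z * n * z⁻¹ * (n : G)⁻¹)⁻¹ by group]
      exact inv_mem hc
  · intro a
    exact ⟨hquad X1 Z a (by rw [hZ, h1]; exact C.zero x1 C.x1_mem a a.2),
      hquad X2 Z a (by rw [hZ, h2]; exact C.zero x2 C.x2_mem a a.2)⟩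

variable [Finite G]

theorem le_normalizer_of_cert {S A : Subgroup G} {z x1 x2 : G} (C : Cert S A z x1 x2) :
    S ≤ normalizer (A : Set G) := fun s hs =>
  mem_normalizer_of_conjS_eq (eq_of_le_of_card_ge (by
    rintro _ ⟨a, ha, rfl⟩
    exact C.normal s hs a ha) (card_conjS s A).ge)

theorem automizer_trivial {S A : Subgroup G} {z x1 x2 : G} (C : Cert S A z x1 x2)
    [IsMulCommutative A] (Y0 : Subgroup (MulAut A)) (hodd : Odd (Nat.card Y0))
    (hnorm : ∀ n : normalizer (A : Set G), (n : G) ∈ S →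
      ∀ y ∈ Y0, A.normalizerMonoidHom n * y * (A.normalizerMonoidHom n)⁻¹ ∈ Y0) : Y0 = ⊥ := by
  classical
  by_contra hne
  haveI : Nontrivial Y0 := (Subgroup.nontrivial_iff_ne_bot Y0).2 hne
  obtain ⟨v, V, hv, hVc, hVab, hVp, hVne⟩ :=
    FpfHeight.Abelian.exists_char_abelian (OddOrder.FeitThompson.isSolvable_of_odd_card hodd)
  haveI := Fact.mk hv
  haveI : Nontrivial V := (Subgroup.nontrivial_iff_ne_bot V).2 hVne
  have hdvd : v ∣ Nat.card V := by
    obtain ⟨n, hn⟩ := IsPGroup.iff_card.1 hVp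
    rcases Nat.eq_zero_or_pos n with rfl | h
    · exact absurd (card_eq_one.1 (by simpa using hn)) hVne
    · exact hn ▸ dvd_pow_self v h.ne'
  have hvodd : Odd v := hodd.of_dvd_nat (hdvd.trans (card_subgroup_dvd_card V))
  haveI := hVab
  let Y1 : Subgroup Y0 :=
    { carrier := {y | y ∈ V ∧ y ^ v = 1}
      one_mem' := ⟨one_mem _, one_pow _⟩
      mul_mem' := fun {a b} ha hb => ⟨mul_mem ha.1 hb.1, by
        rw [Commute.mul_pow (show Commute a b from
          congrArg Subtype.val (mul_comm' (M := V) ⟨a, ha.1⟩ ⟨b, hb.1⟩)), ha.2, hb.2, one_mul]⟩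
      inv_mem' := fun {a} ha => ⟨inv_mem ha.1, by rw [inv_pow, ha.2, inv_one]⟩ }
  obtain ⟨y, hy⟩ := exists_prime_orderOf_dvd_card' v hdvd
  set Y := Y1.map Y0.subtype with hY
  have hYne : Y ≠ ⊥ := fun e => by
    have hyY : ((y : Y0) : MulAut A) ∈ Y := ⟨(y : Y0), ⟨y.2, by
      rw [← hy]; exact congrArg Subtype.val (pow_orderOf_eq_one y)⟩, rfl⟩
    rw [e, mem_bot] at hyY
    have : y = 1 := Subtype.ext (Subtype.ext hyY)
    rw [this, orderOf_one] at hy
    exact hv.one_lt.ne hy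
  have hN := le_normalizer_of_cert C
  have hconj : ∀ n : normalizer (A : Set G), (n : G) ∈ S → ∀ a ∈ Y,
      A.normalizerMonoidHom n * a * (A.normalizerMonoidHom n)⁻¹ ∈ Y := by
    rintro n hn _ ⟨a, ⟨haV, hav⟩, rfl⟩
    set σ : MulAut A := A.normalizerMonoidHom n with hσ
    let e : MulAut Y0 :=
      { toFun := fun y => ⟨σ * y * σ⁻¹, hnorm n hn y y.2⟩
        invFun := fun y => ⟨σ⁻¹ * y * σ, by
          have := hnorm n⁻¹ (inv_mem hn) y y.2
          rwa [map_inv, inv_inv] at this⟩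
        left_inv := fun y => Subtype.ext (show σ⁻¹ * (σ * y * σ⁻¹) * σ = _ by group)
        right_inv := fun y => Subtype.ext (show σ * (σ⁻¹ * y * σ) * σ⁻¹ = _ by group)
        map_mul' := fun a b => Subtype.ext (show σ * (a * b) * σ⁻¹ = σ * a * σ⁻¹ * (σ * b * σ⁻¹) by
          group) }
    have he : e a ∈ V := (Subgroup.characteristic_iff_map_eq.1 hVc e).le ⟨a, haV, rfl⟩
    exact ⟨e a, ⟨he, by rw [← map_pow, hav, map_one]⟩, rfl⟩
  let Z : normalizer (A : Set G) := ⟨z, hN C.z_mem⟩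
  let X1 : normalizer (A : Set G) := ⟨x1, hN C.x1_mem⟩
  let X2 : normalizer (A : Set G) := ⟨x2, hN C.x2_mem⟩
  have H := act_of_cert C (Z := Z) (X1 := X1) (X2 := X2) rfl rfl rfl
  have hinv : ∀ {f : MulAut A}, f * f = 1 → f⁻¹ = f := fun h => inv_eq_of_mul_eq_one_right h
  refine no_odd H hvodd Y ?_ ?_ hYne (fun a ha => ?_) (fun a ha => ?_) (fun a ha => ?_)
  · rintro _ ⟨a, ⟨ha, -⟩, rfl⟩ _ ⟨b, ⟨hb, -⟩, rfl⟩
    exact congrArg Subtype.val (congrArg Subtype.val (mul_comm' (M := V) ⟨a, ha⟩ ⟨b, hb⟩))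
  · rintro _ ⟨a, ⟨-, ha⟩, rfl⟩
    rw [← map_pow, ha, map_one]
  · have := hconj Z C.z_mem a ha
    rwa [hinv H.z2] at this
  · have := hconj X1 C.x1_mem a ha
    rwa [hinv H.x12] at this
  · have := hconj X2 C.x2_mem a ha
    rwa [hinv H.x22] at this

/-- **The main theorem**: the abelian subgroup of order 64 is normal. -/
theorem normal_of_type (hP : Goldschmidt53.PropSimple.{u}) (hZ : Walter.PropNoField.{u})
    (hO : Walter.PropOrder.{u}) (hcore : Cfsg.oddCore G = ⊥) {P : Sylow 2 Cfsg.M24} (S : Sylow 2 G)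
    (hS : Nonempty (↥(S : Subgroup G) ≃*
      (↥(P : Subgroup Cfsg.M24) ⧸ Subgroup.center ↥(P : Subgroup Cfsg.M24))))
    (A : Subgroup G) (hA : A ≤ (S : Subgroup G)) (hAc : IsMulCommutative A)
    (hA64 : Nat.card A = 64) : A.Normal := by
  classical
  haveI : Fact (Nat.Prime 2) := ⟨Nat.prime_two⟩
  obtain ⟨z, x1, x2, C⟩ := exists_cert (S : Subgroup G) A hS hA hAc hA64
  set K := normalClosure (A : Set G) with hK
  haveI hKn : K.Normal := normalClosure_normal
  have hAK : A ≤ K := subset_normalClosure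
  have hcoreK : Cfsg.pPrimeCore 2 K = ⊥ := by
    have hcop := Cores.pPrimeCore_coprime (G := K) 2
    haveI : ((Cfsg.pPrimeCore 2 K).map K.subtype).Normal := Cores.normal_map_subtype K _
    have h := Cores.le_pPrimeCore (p := 2) (N := (Cfsg.pPrimeCore 2 K).map K.subtype)
      (by rwa [card_map_of_injective K.subtype_injective])
    have h' : (Cfsg.pPrimeCore 2 K).map K.subtype = ⊥ := le_bot_iff.1 (h.trans hcore.le)
    exact (Subgroup.map_eq_bot_iff_of_injective _ K.subtype_injective).1 h'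
  obtain ⟨-, -, ⟨T, hAT, hTeq⟩, -⟩ := GoldStructure10.row2775 hP hZ hO S A hAc
    ⟨C.le, fun x hx g hg => strongly_closed C hx hg⟩ K hK K (MonoidHom.id K) Function.surjective_id
    (by rw [MonoidHom.ker_id, hcoreK])
  rw [Subgroup.map_id] at hAT hTeq
  -- pass to a Sylow subgroup above `T`
  set T' := (T : Subgroup K).map K.subtype with hT'
  obtain ⟨S', hS'⟩ := (T.2.map K.subtype).exists_le_sylow
  have hAT' : A ≤ T' := fun a ha => ⟨⟨a, hAK ha⟩, hAT (mem_subgroupOf.2 ha), rfl⟩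
  obtain ⟨e⟩ := hS
  obtain ⟨z', y1, y2, C'⟩ := exists_cert (S' : Subgroup G) A ⟨(Sylow.equiv S' S).trans e⟩
    (hAT'.trans hS') hAc hA64
  have hTA : T' = A := by
    refine le_antisymm (fun t ht => ?_) hAT'
    by_contra htA
    obtain ⟨n, hn⟩ := IsPGroup.iff_card.1 S'.2
    have hex : ∃ k, t ^ 2 ^ k ∈ A := ⟨n, by
      have : (⟨t, hS' ht⟩ : S') ^ 2 ^ n = 1 := by rw [← hn]; exact pow_card_eq_one'
      have h1 : t ^ 2 ^ n = 1 := congrArg Subtype.val this
      rw [h1]; exact one_mem _⟩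
    obtain ⟨k, hk⟩ : ∃ k, Nat.find hex = k + 1 := by
      refine Nat.exists_eq_succ_of_ne_zero fun h => htA ?_
      have := Nat.find_spec hex
      rwa [h, pow_zero, pow_one] at this
    set x := t ^ 2 ^ k with hx
    have hxA : x ∉ A := Nat.find_min hex (by omega)
    have hx2 : x * x ∈ A := by
      have := Nat.find_spec hex
      rwa [hk, pow_succ, pow_mul, pow_two] at this
    have hxT : x ∈ T' := pow_mem ht _
    obtain ⟨a, ha, hxa⟩ := C'.split x (hS' hxT) ⟨hxA, hx2⟩
    obtain ⟨u, hu, hue⟩ : x * a ∈ T' := mul_mem hxT (hAT' ha)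
    have hu2 : u ^ 2 = 1 := Subtype.ext (by
      rw [pow_two, Subgroup.coe_mul, show (u : G) = x * a from hue, hxa]; rfl)
    have huA : u ∈ A.subgroupOf K :=
      hTeq.ge (mem_sup_right (Subgroup.subset_closure (show u ∈ {w | w ∈ (T : Subgroup K) ∧ w ^ 2 = 1}
        from ⟨hu, hu2⟩)))
    have hxaA : x * a ∈ A := hue ▸ mem_subgroupOf.1 huA
    exact hxA (by simpa using mul_mem hxaA (inv_mem ha))
  have hTsub : (T : Subgroup K) = A.subgroupOf K := by
    rw [← hTA, hT', Subgroup.subgroupOf, comap_map_eq_self_of_injective K.subtype_injective]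
  haveI : IsMulCommutative A := hAc
  -- the automizer in `K`
  set ρ := A.normalizerMonoidHom with hρ
  set Y0 := (K.subgroupOf (normalizer (A : Set G))).map ρ with hY0
  have hodd : Odd (Nat.card Y0) := by
    set M := K ⊓ normalizer (A : Set G) with hM
    have hAM : A ≤ M := le_inf hAK le_normalizer
    have hidx : ¬ 2 ∣ (A.subgroupOf K).index := hTsub ▸ T.not_dvd_index
    have hrange : Nat.card Y0 ∣ (A.subgroupOf M).index := by
      let φ : M →* MulAut A := ρ.comp (inclusion (inf_le_right : M ≤ normalizer (A : Set G)))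
      have hr : φ.range = Y0 := by
        ext f
        constructor
        · rintro ⟨m, rfl⟩
          exact ⟨inclusion (inf_le_right : M ≤ normalizer (A : Set G)) m, mem_subgroupOf.2 m.2.1, rfl⟩
        · rintro ⟨n, hn, rfl⟩
          exact ⟨⟨n, mem_subgroupOf.1 hn, n.2⟩, rfl⟩
      rw [← hr, ← index_ker]
      refine index_dvd_of_le fun a ha => ?_
      rw [MonoidHom.mem_ker]
      refine MulEquiv.ext fun b => Subtype.ext ?_
      show (a : G) * b * (a : G)⁻¹ = b
      rw [(C.comm (mem_subgroupOf.1 ha) b.2).eq, mul_inv_cancel_right]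
    have hdvd : (A.subgroupOf M).index ∣ (A.subgroupOf K).index := by
      show A.relIndex M ∣ A.relIndex K
      rw [← relIndex_mul_relIndex A M K hAM inf_le_left]
      exact dvd_mul_right _ _
    rw [← Nat.not_even_iff_odd, even_iff_two_dvd]
    exact fun h => hidx (h.trans (hrange.trans hdvd))
  have hnorm : ∀ n : normalizer (A : Set G), (n : G) ∈ (S' : Subgroup G) →
      ∀ y ∈ Y0, ρ n * y * (ρ n)⁻¹ ∈ Y0 := by
    rintro n - _ ⟨k, hk, rfl⟩
    refine ⟨n * k * n⁻¹, ?_, by rw [map_mul, map_mul, map_inv]⟩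
    rw [SetLike.mem_coe, mem_subgroupOf] at hk ⊢
    exact hKn.conj_mem _ hk n
  have hbot := automizer_trivial C' Y0 hodd hnorm
  -- Burnside's transfer
  have hcen : normalizer ((T : Subgroup K) : Set K) ≤ centralizer ((T : Subgroup K) : Set K) := by
    intro k hk
    rw [hTsub] at hk ⊢
    have hkN : (k : G) ∈ normalizer (A : Set G) := by
      rw [mem_normalizer_iff]
      intro a
      constructor
      · intro ha
        exact mem_subgroupOf.1 ((mem_normalizer_iff.1 hk ⟨a, hAK ha⟩).1 (mem_subgroupOf.2 ha))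
      · intro ha
        have haK : a ∈ K := by
          have := mul_mem (mul_mem (inv_mem k.2) (hAK ha)) k.2
          simpa [mul_assoc] using this
        exact mem_subgroupOf.1 ((mem_normalizer_iff.1 hk ⟨a, haK⟩).2 (mem_subgroupOf.2 ha))
    have h1 : ρ ⟨k, hkN⟩ ∈ Y0 := ⟨⟨k, hkN⟩, mem_subgroupOf.2 k.2, rfl⟩
    rw [hbot, mem_bot] at h1
    refine mem_centralizer_iff.2 fun a ha => Subtype.ext ?_
    have haA : (a : G) ∈ A := mem_subgroupOf.1 ha
    have h2 : (k : G) * a * (k : G)⁻¹ = a :=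
      congrArg Subtype.val (DFunLike.congr_fun h1 (⟨(a : G), haA⟩ : A))
    exact (mul_inv_eq_iff_eq_mul.1 h2).symm
  have hcompl := MonoidHom.ker_transferSylow_isComplement' T hcen
  set N0 := (MonoidHom.transferSylow T hcen).ker
  have hN0 : N0 = ⊥ := by
    have hle : N0 ≤ Cfsg.pPrimeCore 2 K := by
      refine Cores.le_pPrimeCore ?_
      have h := hcompl.index_eq_card
      rw [← h, hTsub, Nat.coprime_comm, Nat.prime_two.coprime_iff_not_dvd]
      exact hTsub ▸ T.not_dvd_index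
    exact le_bot_iff.1 (hle.trans hcoreK.le)
  rw [hN0, isComplement'_bot_left] at hcompl
  have hKA : K ≤ A := fun k hk => by
    have : (⟨k, hk⟩ : K) ∈ A.subgroupOf K := hTsub ▸ (hcompl ▸ mem_top _)
    exact mem_subgroupOf.1 this
  have : K = A := le_antisymm hKA hAK
  exact this ▸ hKn

end Cfsg.Agent.Lib.M24Type70
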