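import Cfsg.Agent.Lib.M24Type70.Checks
import Cfsg.Agent.Lib.M24Type70.Cert
import Cfsg.Agent.Lib.M24SylowQuot.Basic

/-!
# The certificate holds in a Sylow 2-subgroup of M24 modulo its centre
-/

set_option autoImplicit false

namespace Cfsg.Agent.Lib.M24Type70

open Cfsg Cfsg.Agent.Lib.Computation Cfsg.Agent.Lib.Golay Cfsg.Agent.Lib.FusionAlperin.MathieuCert
open Cfsg.Agent.Lib.M24SylowQuot

attribute [local irreducible] R zR x1R x2R Cfsg.Agent.Lib.FusionAlperin.M24Data.els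
  Cfsg.Agent.Lib.M24SylowQuot.Data.elsA

local notation "QQ" => K ⧸ Subgroup.center K

/-- The code `c` represents the element `x` of the quotient. -/
def Rep (c : ℕ) (x : QQ) : Prop :=
  okCode c = true ∧ ∃ y : K, (y : Equiv.Perm GolayPt) = gperm c ∧ qm y = x

theorem rep_of_mem {c : ℕ} (hc : c ∈ LP) : Rep c (qm (el c hc)) :=
  ⟨(dataP.ok c hc).1, _, rfl, rfl⟩

theorem exists_rep (x : QQ) : ∃ c ∈ LP, Rep c x := by
  obtain ⟨c, hc, rfl⟩ := exists_code' x
  exact ⟨c, hc, rep_of_mem hc⟩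

theorem Rep.mul {a b : ℕ} {x y : QQ} (ha : Rep a x) (hb : Rep b y) :
    Rep (mulP 24 5 a b) (x * y) := by
  obtain ⟨ha, u, hu, rfl⟩ := ha
  obtain ⟨hb, v, hv, rfl⟩ := hb
  exact ⟨okCode_mulP ha hb, u * v, by rw [gperm_mul ha hb, Subgroup.coe_mul, hu, hv], map_mul _ _ _⟩

theorem rep_one : Rep oneCode 1 :=
  ⟨okCode_oneCode, 1, by rw [gperm_oneCode, OneMemClass.coe_one], map_one _⟩

theorem congB_rep {a b : ℕ} {x y : QQ} (ha : Rep a x) (hb : Rep b y) :
    congB a b = true ↔ x = y := by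
  obtain ⟨ha, u, hu, rfl⟩ := ha
  obtain ⟨hb, v, hv, rfl⟩ := hb
  exact congB_iff ha hb hu hv

theorem commB_rep {a b : ℕ} {x y : QQ} (ha : Rep a x) (hb : Rep b y) :
    commB a b = true ↔ Commute x y := by
  rw [commB, congB_rep (ha.mul hb) (hb.mul ha)]
  rfl

theorem Rep.eq_of_canon {a b : ℕ} {x y : QQ} (ha : Rep a x) (hb : Rep b y)
    (h : canon a = canon b) : x = y :=
  (congB_rep ha hb).1 (by rw [congB, h]; simp [Nat.beq_refl])

theorem inA_iff {c : ℕ} {x : QQ} (hc : Rep c x) : inA LA' c = true ↔ x ∈ A64 := by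
  obtain ⟨hok, y, hy, rfl⟩ := hc
  rw [inA, forceNat_eq, List.any_eq_true]
  constructor
  · rintro ⟨a, ha, e⟩
    rw [Nat.beq_eq] at e
    have hok' := (dataA.ok a ha).1
    refine ⟨y, Subgroup.mem_subgroupOf.2 ?_, rfl⟩
    rw [hy, ← gperm_canon hok (e ▸ hok'), e]
    exact dataA.gperm_mem ha
  · intro hx
    have hy' : y ∈ (genBy Data.gensA).subgroupOf K := by
      have : y ∈ (((genBy Data.gensA).subgroupOf K).map qm).comap qm := hx
      rwa [Subgroup.comap_map_eq_self (by rw [QuotientGroup.ker_mk']; exact center_le)] at this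
    obtain ⟨a, ha, e⟩ := dataA.exists_code (Subgroup.mem_subgroupOf.1 hy')
    refine ⟨a, ha, ?_⟩
    rw [Nat.beq_eq, (canon_eq_iff hok (dataA.ok a ha).1).2 (hy.symm.trans e.symm)]
    exact (dataA.ok a ha).2

theorem mem_LP_of_mem_LA {a : ℕ} (ha : a ∈ LA') : a ∈ LP := by
  obtain ⟨c, hc, e⟩ := dataP.exists_code (dataA.le (dataA.gperm_mem ha))
  have h := eq_of_gperm (dataA.ok a ha).1 (dataP.ok c hc).1 (dataA.ok a ha).2 (dataP.ok c hc).2 e.symm
  exact h ▸ hc

theorem exists_rep_A {x : QQ} (hx : x ∈ A64) : ∃ a ∈ LA', Rep a x := by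
  obtain ⟨y, hy, rfl⟩ := hx
  obtain ⟨a, ha, e⟩ := dataA.exists_code (Subgroup.mem_subgroupOf.1 hy)
  exact ⟨a, ha, (dataA.ok a ha).1, y, e.symm, rfl⟩

theorem rep_LA {a : ℕ} (ha : a ∈ LA') : ∃ x ∈ A64, Rep a x :=
  ⟨_, code_mem_A64 (mem_LP_of_mem_LA ha) ha, rep_of_mem _⟩

theorem inv_A {a : QQ} (ha : a ∈ A64) : a⁻¹ = a :=
  inv_eq_of_mul_eq_one_right (by rw [← pow_two]; exact sq_eq_one_of_mem ha)

theorem comm_A {a b : QQ} (ha : a ∈ A64) (hb : b ∈ A64) : Commute a b := by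
  have h := inv_A (mul_mem ha hb)
  rw [mul_inv_rev, inv_A ha, inv_A hb] at h
  exact h.symm

theorem rep_R {r : ℕ × ℕ} (hr : r ∈ R) : ∃ x : QQ, Rep r.1 x ∧ Rep r.2 x⁻¹ := by
  have h := List.all_eq_true.1 repOk70_true r hr
  simp only [Bool.and_eq_true, Nat.beq_eq] at h
  obtain ⟨⟨h1, h2⟩, h3⟩ := h
  refine ⟨_, rep_of_mem (mem_of_check h1), ?_⟩
  have hb := rep_of_mem (mem_of_check h2)
  have : qm (el r.1 (mem_of_check h1)) * qm (el r.2 (mem_of_check h2)) = 1 := by
    refine ((rep_of_mem _).mul hb).eq_of_canon rep_one ?_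
    rw [h3, (dataP.ok oneCode dataP.oneMem).2]
  rwa [← inv_eq_of_mul_eq_one_right this] at hb

/-- Every element is a representative times an element of the abelian subgroup. -/
theorem cover (x : QQ) : ∃ r ∈ R, ∃ t : QQ, Rep r.1 t ∧ Rep r.2 t⁻¹ ∧ ∃ a ∈ A64, x = t * a := by
  obtain ⟨c, hc, hcx⟩ := exists_rep x
  have h := List.any_eq_true.1 (List.all_eq_true.1 coverOk_true c hc)
  obtain ⟨r, hr, h⟩ := h
  obtain ⟨t, ht, ht'⟩ := rep_R hr
  exact ⟨r, hr, t, ht, ht', t⁻¹ * x, (inA_iff (ht'.mul hcx)).1 h, by group⟩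

theorem normal_A64 (s : QQ) {a : QQ} (ha : a ∈ A64) : s * a * s⁻¹ ∈ A64 := by
  obtain ⟨r, hr, t, ht, ht', b, hb, rfl⟩ := cover s
  have e : t * b * a * (t * b)⁻¹ = t * a * t⁻¹ := by
    rw [mul_inv_rev, mul_assoc t b a, (comm_A hb ha).eq]; group
  rw [e]
  obtain ⟨c, hc, hca⟩ := exists_rep_A ha
  exact (inA_iff ((ht.mul hca).mul ht')).1 (List.all_eq_true.1 (List.all_eq_true.1 normalOk_true r hr) c hc)

theorem normalA : A64.Normal := ⟨fun _ ha s => normal_A64 s ha⟩

/-- Conjugation by a coset representative. -/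
theorem conj_rep {t b a : QQ} (ha : a ∈ A64) (hb : b ∈ A64) :
    t * b * a * (t * b)⁻¹ = t * a * t⁻¹ := by
  rw [mul_inv_rev, mul_assoc t b a, (comm_A hb ha).eq]; group

theorem mk_eq {t b : QQ} (hb : b ∈ A64) :
    (QuotientGroup.mk (t * b) : QQ ⧸ A64) = QuotientGroup.mk t :=
  QuotientGroup.eq.2 (by rw [mul_inv_rev, inv_mul_cancel_right]; exact inv_mem hb)

theorem mem_congr {x y : QQ} (h : (QuotientGroup.mk x : QQ ⧸ A64) = QuotientGroup.mk y) :
    x ∈ A64 ↔ y ∈ A64 := by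
  have h' := QuotientGroup.eq.1 h
  exact ⟨fun hx => by simpa using mul_mem hx h', fun hy => by simpa using mul_mem hy (inv_mem h')⟩

theorem comm_congr {x y u v : QQ} (hx : (QuotientGroup.mk x : QQ ⧸ A64) = QuotientGroup.mk y)
    (hu : (QuotientGroup.mk u : QQ ⧸ A64) = QuotientGroup.mk v) :
    x * u * x⁻¹ * u⁻¹ ∈ A64 ↔ y * v * y⁻¹ * v⁻¹ ∈ A64 := by
  haveI := normalA
  refine mem_congr ?_
  simp only [QuotientGroup.mk_mul, QuotientGroup.mk_inv, hx, hu]

theorem sq_congr {x y : QQ} (hx : (QuotientGroup.mk x : QQ ⧸ A64) = QuotientGroup.mk y) :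
    x * x ∈ A64 ↔ y * y ∈ A64 := by
  haveI := normalA
  refine mem_congr ?_
  simp only [QuotientGroup.mk_mul, hx]

theorem mul_congr {x y : QQ} (g : QQ) (hx : (QuotientGroup.mk x : QQ ⧸ A64) = QuotientGroup.mk y) :
    g * x ∈ A64 ↔ g * y ∈ A64 := by
  haveI := normalA
  refine mem_congr ?_
  simp only [QuotientGroup.mk_mul, hx]

theorem commute_shift {t b a : QQ} (hb : b ∈ A64) (ha : a ∈ A64) :
    Commute (t * b) a ↔ Commute t a := by
  refine ⟨fun h => ?_, fun h => h.mul_left (comm_A hb ha)⟩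
  simpa using h.mul_left ((comm_A hb ha).inv_left)

theorem comA_iff {x y : ℕ × ℕ} {s t : QQ} (hx : Rep x.1 s) (hx' : Rep x.2 s⁻¹) (hy : Rep y.1 t)
    (hy' : Rep y.2 t⁻¹) : comA LA' x y = true ↔ s * t * s⁻¹ * t⁻¹ ∈ A64 := by
  rw [comA, inA_iff ((hx.mul hy).mul (hx'.mul hy'))]
  simp only [mul_assoc]

theorem invB_iff {x : ℕ × ℕ} {s : QQ} (hx : Rep x.1 s) : invB LA' x = true ↔ InvMod A64 s := by
  rw [invB, Bool.and_eq_true, Bool.not_eq_true', InvMod, inA_iff (hx.mul hx)]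
  exact and_congr ⟨fun h hs => by simp [(inA_iff hx).2 hs] at h,
    fun h => Bool.eq_false_iff.2 fun hh => h ((inA_iff hx).1 hh)⟩ Iff.rfl

theorem invB2_iff {x : ℕ × ℕ} {z s : QQ} (hz : Rep zR.2 z⁻¹) (hx : Rep x.1 s) :
    invB2 LA' x = true ↔ InvMod2 A64 z s := by
  rw [invB2, Bool.and_eq_true, Bool.not_eq_true', InvMod2, invB_iff hx]
  exact and_congr Iff.rfl ⟨fun h hs => by simp [(inA_iff (hz.mul hx)).2 hs] at h,
    fun h => Bool.eq_false_iff.2 fun hh => h ((inA_iff (hz.mul hx)).1 hh)⟩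

theorem cjB_rep {u : ℕ × ℕ} {a : ℕ} {t x : QQ} (hu : Rep u.1 t) (hu' : Rep u.2 t⁻¹) (ha : Rep a x) :
    Rep (cjB u a) (t * x * t⁻¹ * x) := ((hu.mul ha).mul hu').mul ha

theorem card_of_count (X : Subgroup QQ) (hX : X ≤ A64) (p : ℕ → Bool)
    (hp : ∀ a ∈ LA', ∀ x, Rep a x → (p a = true ↔ x ∈ X)) :
    2 * Nat.card X = LA'.countP p := by
  classical
  have hLA : LA'.Nodup := dataA.nodup
  rw [← card_comap, List.countP_eq_length_filter,
    ← List.toFinset_card_of_nodup (hLA.filter p)]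
  have hmem : ∀ a ∈ (LA'.filter p).toFinset, ∃ y : X.comap qm,
      ((y : K) : Equiv.Perm GolayPt) = gperm a := by
    intro a ha
    rw [List.mem_toFinset, List.mem_filter] at ha
    have hP := mem_LP_of_mem_LA ha.1
    exact ⟨⟨el a hP, Subgroup.mem_comap.2 ((hp a ha.1 _ (rep_of_mem hP)).1 ha.2)⟩, rfl⟩
  let f : (LA'.filter p).toFinset → X.comap qm := fun a => (hmem a a.2).choose
  have hf : Function.Bijective f := by
    refine ⟨fun a b h => Subtype.ext ?_, fun y => ?_⟩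
    · have ha := (List.mem_filter.1 (List.mem_toFinset.1 a.2)).1
      have hb := (List.mem_filter.1 (List.mem_toFinset.1 b.2)).1
      refine dataA.injOn ha hb ?_
      rw [← (hmem a a.2).choose_spec, ← (hmem b b.2).choose_spec]
      exact congrArg (fun y : X.comap qm => ((y : K) : Equiv.Perm GolayPt)) h
    · have hy : qm (y : K) ∈ A64 := hX y.2
      obtain ⟨a, ha, hax⟩ := exists_rep_A hy
      obtain ⟨hok, w, hw, hwy⟩ := hax
      -- the element itself has a code in the list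
      have hyA : (y : K) ∈ (genBy Data.gensA).subgroupOf K := by
        have : (y : K) ∈ (((genBy Data.gensA).subgroupOf K).map qm).comap qm := hy
        rwa [Subgroup.comap_map_eq_self (by rw [QuotientGroup.ker_mk']; exact center_le)] at this
      obtain ⟨b, hb, hby⟩ := dataA.exists_code (Subgroup.mem_subgroupOf.1 hyA)
      have hbR : Rep b (qm (y : K)) := ⟨(dataA.ok b hb).1, y, hby.symm, rfl⟩
      have hbf : b ∈ (LA'.filter p).toFinset := by
        rw [List.mem_toFinset, List.mem_filter]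
        exact ⟨hb, (hp b hb _ hbR).2 y.2⟩
      refine ⟨⟨b, hbf⟩, Subtype.ext (Subtype.ext ?_)⟩
      exact (hmem b hbf).choose_spec.trans hby
  rw [← Nat.card_eq_of_bijective f hf, Nat.card_eq_fintype_card, Fintype.card_coe]

theorem getD_mem_R {i : ℕ} (h : i < 8) : R.getD i (0, 0) ∈ R := by
  have h8 : R.length = 8 := by rw [R]; rfl
  rw [List.getD_eq_getElem _ _ (h8.symm ▸ h)]
  exact List.getElem_mem _

theorem cert_model : ∃ z x1 x2 : QQ, Cert (⊤ : Subgroup QQ) A64 z x1 x2 := by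
  obtain ⟨z, hz, hz'⟩ := rep_R (show zR ∈ R by rw [zR]; exact getD_mem_R (by norm_num))
  obtain ⟨x1, hx1, hx1'⟩ := rep_R (show x1R ∈ R by rw [x1R]; exact getD_mem_R (by norm_num))
  obtain ⟨x2, hx2, hx2'⟩ := rep_R (show x2R ∈ R by rw [x2R]; exact getD_mem_R (by norm_num))
  have hd := dihOk_true
  simp only [dihOk, Bool.and_eq_true, List.all_eq_true] at hd
  obtain ⟨⟨⟨⟨hcen, hzI⟩, h1I⟩, h2I⟩, hw⟩ := hd
  have hinv : ∀ {t b : QQ}, b ∈ A64 → (InvMod A64 (t * b) ↔ InvMod A64 t) := fun {t b} hb => by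
    rw [InvMod, InvMod, mem_congr (mk_eq hb), sq_congr (mk_eq hb)]
  have hinv2 : ∀ {t b : QQ}, b ∈ A64 → (InvMod2 A64 z (t * b) ↔ InvMod2 A64 z t) := fun {t b} hb => by
    rw [InvMod2, InvMod2, hinv hb, mul_congr _ (mk_eq hb)]
  refine ⟨z, x1, x2, le_top, fun s _ a ha => normal_A64 s ha, card_A64,
    fun a ha => by rw [← pow_two]; exact sq_eq_one_of_mem ha,
    fun B _ hB h64 => eq_A64 B hB h64, trivial, trivial, trivial, ?_, (invB_iff hz).1 hzI,
    (invB2_iff hz' hx1).1 h1I, (invB2_iff hz' hx2).1 h2I,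
    (inA_iff (hz'.mul ((hx1.mul hx2).mul (hx1.mul hx2)))).1 hw, ?_, ?_, ?_, ?_, ?_, ?_, ?_⟩
  · intro u _
    obtain ⟨r, hr, t, ht, ht', b, hb, rfl⟩ := cover u
    rw [comm_congr rfl (mk_eq hb)]
    exact (comA_iff hz hz' ht ht').1 (hcen r hr)
  · intro x _ hx
    obtain ⟨r, hr, t, ht, -, b, hb, rfl⟩ := cover x
    have h := List.all_eq_true.1 centOk_true r hr
    rw [(invB_iff ht).2 ((hinv hb).1 hx)] at h
    simp only [Bool.not_true, Bool.false_or, Nat.beq_eq] at h
    have hX : A64 ⊓ Subgroup.centralizer {t * b} = A64 ⊓ Subgroup.centralizer {t} := by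
      ext a
      simp only [Subgroup.mem_inf, Subgroup.mem_centralizer_singleton_iff]
      exact and_congr_right fun ha => by
        have := commute_shift (t := t) hb ha
        exact ⟨fun h => (this.1 h.symm).symm, fun h => (this.2 h.symm).symm⟩
    rw [hX]
    have hc := card_of_count (A64 ⊓ Subgroup.centralizer {t}) inf_le_left (fun a => commB r.1 a)
      fun a ha x hax => by
        rw [commB_rep ht hax, Subgroup.mem_inf, Subgroup.mem_centralizer_singleton_iff]
        obtain ⟨x', hx', hax'⟩ := rep_LA ha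
        have := hax.eq_of_canon hax' rfl
        exact ⟨fun h => ⟨this ▸ hx', h.eq.symm⟩, fun h => h.2.symm⟩
    omega
  · intro x _ hx
    obtain ⟨r, hr, t, ht, -, b, hb, rfl⟩ := cover x
    have h := List.all_eq_true.1 fourOk_true r hr
    rw [(invB2_iff hz' ht).2 ((hinv2 hb).1 hx)] at h
    simp only [Bool.not_true, Bool.false_or, Nat.beq_eq] at h
    have hX : A64 ⊓ Subgroup.centralizer {t * b, z} = A64 ⊓ Subgroup.centralizer {t, z} := by
      ext a
      simp only [Subgroup.mem_inf, Subgroup.mem_centralizer_iff, Set.mem_insert_iff,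
        Set.mem_singleton_iff, forall_eq_or_imp, forall_eq]
      exact and_congr_right fun ha => and_congr_left fun _ => commute_shift hb ha
    rw [hX]
    have hc := card_of_count (A64 ⊓ Subgroup.centralizer {t, z}) inf_le_left
      (fun a => commB r.1 a && commB zR.1 a) fun a ha x hax => by
        rw [Bool.and_eq_true, commB_rep ht hax, commB_rep hz hax]
        simp only [Subgroup.mem_inf, Subgroup.mem_centralizer_iff, Set.mem_insert_iff,
          Set.mem_singleton_iff, forall_eq_or_imp, forall_eq]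
        obtain ⟨x', hx', hax'⟩ := rep_LA ha
        exact ⟨fun h => ⟨hax.eq_of_canon hax' rfl ▸ hx', h.1, h.2⟩, fun h => h.2⟩
    omega
  · intro x _ hx u _ hc a ha
    obtain ⟨r, hr, t, ht, ht', b, hb, rfl⟩ := cover x
    obtain ⟨r', hr', t', hu, hu', b', hb', rfl⟩ := cover u
    rw [conj_rep ha hb']
    rw [comm_congr (mk_eq hb) (mk_eq hb')] at hc
    rw [commute_shift hb (mul_mem (normal_A64 t' ha) ha)]
    have h := List.all_eq_true.1 quadOk_true r hr
    rw [(invB_iff ht).2 ((hinv hb).1 hx)] at h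
    simp only [Bool.not_true, Bool.false_or, List.all_eq_true] at h
    have h := h r' hr'
    rw [(comA_iff ht ht' hu hu').2 hc] at h
    simp only [Bool.not_true, Bool.false_or, List.all_eq_true] at h
    obtain ⟨c, hc', hca⟩ := exists_rep_A ha
    exact (commB_rep ht (cjB_rep hu hu' hca)).1 (h c hc')
  · intro x _ hx u _ a ha hza
    obtain ⟨r, hr, t, ht, ht', b, hb, rfl⟩ := cover x
    obtain ⟨r', hr', t', hu, hu', b', hb', rfl⟩ := cover u
    rw [conj_rep ha hb', commute_shift hb (mul_mem (normal_A64 t' ha) ha)]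
    have h := List.all_eq_true.1 fixOk_true r hr
    rw [(invB2_iff hz' ht).2 ((hinv2 hb).1 hx)] at h
    simp only [Bool.not_true, Bool.false_or, List.all_eq_true] at h
    obtain ⟨c, hc', hca⟩ := exists_rep_A ha
    have h := h r' hr' c hc'
    rw [(commB_rep hz hca).2 hza] at h
    simp only [Bool.not_true, Bool.false_or] at h
    exact (commB_rep ht (cjB_rep hu hu' hca)).1 h
  · intro u _ a ha
    obtain ⟨r, hr, t, ht, -, b, hb, rfl⟩ := cover u
    rw [commute_shift hb (mul_mem (normal_A64 z ha) ha)]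
    obtain ⟨c, hc', hca⟩ := exists_rep_A ha
    exact (commB_rep ht (cjB_rep hz hz' hca)).1
      (List.all_eq_true.1 (List.all_eq_true.1 zeroOk_true r hr) c hc')
  · intro x _ hx
    obtain ⟨r, hr, t, ht, -, b, hb, rfl⟩ := cover x
    have h := List.all_eq_true.1 splitOk_true r hr
    rw [(invB_iff ht).2 ((hinv hb).1 hx)] at h
    simp only [Bool.not_true, Bool.false_or, List.any_eq_true] at h
    obtain ⟨c, hc', he⟩ := h
    obtain ⟨a, ha, hca⟩ := rep_LA hc'
    refine ⟨b⁻¹ * a, mul_mem (inv_mem hb) ha, ?_⟩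
    rw [show t * b * (b⁻¹ * a) = t * a by group]
    exact (congB_rep ((ht.mul hca).mul (ht.mul hca)) rep_one).1 he
  · intro x _ hx s _ hc
    obtain ⟨r, hr, t, ht, ht', b, hb, rfl⟩ := cover x
    obtain ⟨r', hr', t', hs, hs', b', hb', rfl⟩ := cover s
    rw [comm_congr (mk_eq hb) (mk_eq hb')] at hc
    have h := List.all_eq_true.1 fourGroupOk_true r hr
    rw [(invB2_iff hz' ht).2 ((hinv2 hb).1 hx)] at h
    simp only [Bool.not_true, Bool.false_or, List.all_eq_true] at h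
    have h := h r' hr'
    rw [(comA_iff ht ht' hs hs').2 hc] at h
    simp only [Bool.not_true, Bool.false_or, Bool.or_eq_true, inA_iff hs, inA_iff (hz'.mul hs),
      inA_iff (ht'.mul hs), inA_iff (hz'.mul (ht'.mul hs))] at h
    haveI := normalA
    have e1 : (QuotientGroup.mk ((t * b)⁻¹ * (t' * b')) : QQ ⧸ A64) = QuotientGroup.mk (t⁻¹ * t') := by
      simp only [QuotientGroup.mk_mul, QuotientGroup.mk_inv, mk_eq hb, mk_eq hb',
        (QuotientGroup.eq_one_iff b).2 hb, (QuotientGroup.eq_one_iff b').2 hb', mul_one]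
    rw [mem_congr (mk_eq hb'), mul_congr _ (mk_eq hb'), mem_congr e1, mul_congr _ e1]
    tauto

/-- The certificate in any group with such a 2-subgroup. -/
theorem exists_cert {G : Type*} [Group G] {P : Sylow 2 M24} (S A : Subgroup G)
    (hS : Nonempty (S ≃* (↥(P : Subgroup M24) ⧸ Subgroup.center ↥(P : Subgroup M24))))
    (hA : A ≤ S) (hAc : IsMulCommutative A) (hA64 : Nat.card A = 64) :
    ∃ z x1 x2, Cert S A z x1 x2 := by
  obtain ⟨e⟩ := hS
  obtain ⟨d⟩ := nonempty_mulEquiv P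
  have hcen : (Subgroup.center ↥(P : Subgroup M24)).map d.toMonoidHom = Subgroup.center K := by
    ext x
    obtain ⟨y, rfl⟩ := d.surjective x
    simp only [Subgroup.mem_map, MulEquiv.coe_toMonoidHom, EmbeddingLike.apply_eq_iff_eq,
      exists_eq_right, Subgroup.mem_center_iff]
    constructor
    · intro h g
      obtain ⟨g, rfl⟩ := d.surjective g
      rw [← map_mul, ← map_mul, h g]
    · intro h g
      exact d.injective (by rw [map_mul, map_mul, h (d g)])
  let g : S ≃* QQ := e.trans (QuotientGroup.congr _ _ d hcen)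
  let f : QQ →* G := S.subtype.comp g.symm.toMonoidHom
  have hf : Function.Injective f := S.subtype_injective.comp g.symm.injective
  have hr : (⊤ : Subgroup QQ).map f = S := by
    ext x
    exact ⟨fun ⟨y, _, e⟩ => e ▸ (g.symm y).2, fun hx => ⟨g ⟨x, hx⟩, trivial, by
      simp [f]⟩⟩
  obtain ⟨z, x1, x2, C⟩ := cert_model
  have C' := C.map hf
  rw [hr] at C'
  rw [← C'.uniq A hA hAc hA64] at C'
  exact ⟨_, _, _, C'⟩

end Cfsg.Agent.Lib.M24Type70
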