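import Cfsg.Agent.Lib.M24Type70.Main

/-!
# The extraspecial subgroup of order 2^7

Modulo the central involution it is the abelian subgroup of order 64.
-/

set_option autoImplicit false
set_option linter.style.haveILetI false

universe u

namespace Cfsg.Agent.Lib.M24Type70

open Subgroup Cfsg.Agent.Lib.M24SylowQuot
open scoped IsMulCommutative

variable {H : Type u} [Group H] [Finite H]

omit [Finite H] in
theorem card_center_eq_two {P : Sylow 2 Cfsg.M24} {T : Subgroup H}
    (e : T ≃* (P : Subgroup Cfsg.M24)) : Nat.card (center T) = 2 := by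
  obtain ⟨d⟩ := nonempty_mulEquiv P
  rw [← card_center]
  exact Nat.card_congr (Subgroup.centerCongr (e.trans d)).toEquiv

/-- The odd core stays trivial modulo a central subgroup of order 2. -/
theorem oddCore_quotient (hcore : Cfsg.oddCore H = ⊥) (Z : Subgroup H) [Z.Normal]
    (hZ : Z ≤ center H) (hZ2 : Nat.card Z = 2) : Cfsg.oddCore (H ⧸ Z) = ⊥ := by
  set Nb := Cfsg.pPrimeCore 2 (H ⧸ Z) with hNb
  have hcop := Cores.pPrimeCore_coprime (G := H ⧸ Z) 2
  set M := Nb.comap (QuotientGroup.mk' Z) with hM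
  haveI : M.Normal := Subgroup.Normal.comap inferInstance _
  have hZM : Z ≤ M := fun z hz => by
    rw [hM, mem_comap, QuotientGroup.mk'_apply, (QuotientGroup.eq_one_iff z).2 hz]
    exact one_mem _
  have hMmap : M.map (QuotientGroup.mk' Z) = Nb :=
    map_comap_eq_self_of_surjective (QuotientGroup.mk'_surjective Z) Nb
  set Z' := Z.subgroupOf M with hZ'
  have hidx : Z'.index = Nat.card Nb := by
    rw [← hMmap, ← MonoidHom.domRestrict_range, ← index_ker]
    congr 1
    ext m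
    rw [hZ', mem_subgroupOf, MonoidHom.mem_ker]
    exact (QuotientGroup.eq_one_iff (m : H)).symm
  have hZ'2 : Nat.card Z' = 2 := (Nat.card_congr (subgroupOfEquivOfLe hZM).toEquiv).trans hZ2
  haveI hZ'n : Z'.Normal := inferInstance
  obtain ⟨O, hO⟩ := exists_right_complement'_of_coprime (N := Z') (by
    rw [hidx, hZ'2, Nat.coprime_comm]; exact hcop)
  haveI : O.Normal := ⟨fun o ho g => by
    obtain ⟨⟨⟨z, hz⟩, ⟨o', ho'⟩⟩, rfl⟩ := hO.2 g
    have hc : ∀ x : M, z * x = x * z := fun x => Subtype.ext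
      (mem_center_iff.1 (hZ (mem_subgroupOf.1 hz)) (x : H)).symm
    show z * o' * o * (z * o')⁻¹ ∈ O
    rw [show z * o' * o * (z * o')⁻¹ = z * (o' * o * o'⁻¹) * z⁻¹ by group, hc,
      mul_inv_cancel_right]
    exact mul_mem (mul_mem ho' ho) (inv_mem ho')⟩
  have hOc : (Nat.card O).Coprime 2 := by
    rw [← hO.symm.index_eq_card, hidx]
    exact hcop
  have hObot : O = ⊥ := by
    have h := Cores.le_pPrimeCore hOc
    haveI : ((Cfsg.pPrimeCore 2 M).map M.subtype).Normal := Cores.normal_map_subtype M _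
    have h2 := Cores.le_pPrimeCore (p := 2) (N := (Cfsg.pPrimeCore 2 M).map M.subtype) (by
      rw [card_map_of_injective M.subtype_injective]
      exact Cores.pPrimeCore_coprime 2)
    have h3 : (Cfsg.pPrimeCore 2 M).map M.subtype = ⊥ := le_bot_iff.1 (h2.trans hcore.le)
    rw [Subgroup.map_eq_bot_iff_of_injective _ M.subtype_injective] at h3
    exact le_bot_iff.1 (h3 ▸ h)
  rw [hObot, isComplement'_bot_right] at hO
  have : Nat.card Nb = 1 := by rw [← hidx, hO, index_top]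
  exact card_eq_one.1 this

/-- **The quotient statement**: the extraspecial subgroup is normal. -/
theorem extraspecial_normal (hP : Goldschmidt53.PropSimple.{u}) (hZ' : Walter.PropNoField.{u})
    (hO' : Walter.PropOrder.{u}) (hcore : Cfsg.oddCore H = ⊥) (T : Sylow 2 H)
    (P : Sylow 2 Cfsg.M24) (hT : Nonempty (↥(T : Subgroup H) ≃* ↥(P : Subgroup Cfsg.M24)))
    (hZc : ∀ z ∈ (T : Subgroup H), (∀ t ∈ (T : Subgroup H), z * t = t * z) → z ∈ center H)
    (E : Subgroup H) (hE : E ≤ (T : Subgroup H)) (hEn : (E.subgroupOf (T : Subgroup H)).Normal)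
    (hEx : Cfsg.IsExtraspecial 2 E) (hE7 : Nat.card E = 2 ^ 7) : E.Normal := by
  classical
  haveI : Fact (Nat.Prime 2) := ⟨Nat.prime_two⟩
  obtain ⟨e⟩ := hT
  set Z := (center (T : Subgroup H)).map (T : Subgroup H).subtype with hZdef
  have hZ2 : Nat.card Z = 2 := by
    rw [hZdef, card_map_of_injective (T : Subgroup H).subtype_injective]
    exact card_center_eq_two e
  have hZT : Z ≤ (T : Subgroup H) := map_subtype_le _
  have hZH : Z ≤ center H := by
    rintro _ ⟨z, hz, rfl⟩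
    exact hZc z z.2 fun t ht => congrArg Subtype.val (mem_center_iff.1 hz ⟨t, ht⟩).symm
  haveI hZn : Z.Normal := ⟨fun z hz g => by
    rw [mem_center_iff.1 (hZH hz) g, mul_inv_cancel_right]; exact hz⟩
  -- the centre of `E` is `Z`
  set ZE := (center E).map E.subtype with hZE
  have hZE2 : Nat.card ZE = 2 := by
    rw [hZE, card_map_of_injective E.subtype_injective]
    exact hEx.2
  have hconjE : ∀ t ∈ (T : Subgroup H), ∀ x ∈ E, t * x * t⁻¹ ∈ E := fun t ht x hx => by
    have := hEn.conj_mem ⟨x, hE hx⟩ (mem_subgroupOf.2 hx) ⟨t, ht⟩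
    exact mem_subgroupOf.1 this
  have hZEconj : ∀ t ∈ (T : Subgroup H), ∀ z ∈ ZE, t * z * t⁻¹ ∈ ZE := by
    rintro t ht _ ⟨z, hz, rfl⟩
    refine ⟨⟨t * z * t⁻¹, hconjE t ht z z.2⟩, mem_center_iff.2 fun x => Subtype.ext ?_, rfl⟩
    have hx : t⁻¹ * x * t ∈ E := by simpa using hconjE t⁻¹ (inv_mem ht) x x.2
    have h : t⁻¹ * x * t * z = z * (t⁻¹ * x * t) :=
      congrArg Subtype.val (mem_center_iff.1 hz ⟨_, hx⟩)
    show (x : H) * (t * z * t⁻¹) = t * z * t⁻¹ * x
    calc (x : H) * (t * z * t⁻¹) = t * (t⁻¹ * x * t * z) * t⁻¹ := by group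
      _ = t * (z * (t⁻¹ * x * t)) * t⁻¹ := by rw [h]
      _ = _ := by group
  have hZEeq : ZE = Z := by
    refine eq_of_le_of_card_ge (fun z hz => ?_) (hZE2.symm ▸ hZ2.le)
    have hzT : z ∈ (T : Subgroup H) := hE (map_subtype_le _ hz)
    refine ⟨⟨z, hzT⟩, mem_center_iff.2 fun t => Subtype.ext ?_, rfl⟩
    show (t : H) * z = z * t
    by_cases hz1 : z = 1
    · rw [hz1, one_mul, mul_one]
    obtain ⟨⟨a, ha⟩, -, hu⟩ := (Nat.card_eq_two_iff' (1 : ZE)).1 hZE2
    have e1 : (⟨z, hz⟩ : ZE) = ⟨a, ha⟩ := hu _ (fun h => hz1 (congrArg Subtype.val h))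
    have e2 : (⟨(t : H) * z * (t : H)⁻¹, hZEconj t t.2 z hz⟩ : ZE) = ⟨a, ha⟩ := hu _ fun h =>
      hz1 (conj_eq_one_iff.1 (congrArg Subtype.val h))
    have e3 : (t : H) * z * (t : H)⁻¹ = z := congrArg Subtype.val (e2.trans e1.symm)
    exact mul_inv_eq_iff_eq_mul.1 e3
  have hZlE : Z ≤ E := hZEeq ▸ map_subtype_le _
  let q : H →* H ⧸ Z := QuotientGroup.mk' Z
  let T2 : Sylow 2 (H ⧸ Z) := T.mapSurjective (QuotientGroup.mk'_surjective Z)
  let φ : (T : Subgroup H) →* (T2 : Subgroup (H ⧸ Z)) :=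
    (q.comp (T : Subgroup H).subtype).codRestrict _ fun t => ⟨t, t.2, rfl⟩
  have hφ : Function.Surjective φ := by
    rintro ⟨_, t, ht, rfl⟩
    exact ⟨⟨t, ht⟩, rfl⟩
  have hker : φ.ker = center (T : Subgroup H) := by
    ext t
    rw [MonoidHom.mem_ker]
    constructor
    · intro h
      obtain ⟨c, hc, hce⟩ := (QuotientGroup.eq_one_iff (t : H)).1 (congrArg Subtype.val h)
      exact Subtype.ext hce ▸ hc
    · exact fun h => Subtype.ext ((QuotientGroup.eq_one_iff (t : H)).2 ⟨t, h, rfl⟩)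
  have hcen : (center (T : Subgroup H)).map e.toMonoidHom = center (P : Subgroup Cfsg.M24) := by
    ext x
    obtain ⟨y, rfl⟩ := e.surjective x
    simp only [Subgroup.mem_map, MulEquiv.coe_toMonoidHom, EmbeddingLike.apply_eq_iff_eq,
      exists_eq_right, Subgroup.mem_center_iff]
    constructor
    · intro h g
      obtain ⟨g, rfl⟩ := e.surjective g
      rw [← map_mul, ← map_mul, h g]
    · intro h g
      exact e.injective (by rw [map_mul, map_mul, h (e g)])
  have hS : Nonempty (↥(T2 : Subgroup (H ⧸ Z)) ≃*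
      (↥(P : Subgroup Cfsg.M24) ⧸ center ↥(P : Subgroup Cfsg.M24))) :=
    ⟨((QuotientGroup.quotientKerEquivOfSurjective φ hφ).symm.trans
      (QuotientGroup.quotientMulEquivOfEq hker)).trans (QuotientGroup.congr _ _ e hcen)⟩
  have hEc : IsMulCommutative (E.map q) := ⟨⟨fun a b => Subtype.ext (by
    obtain ⟨x, hx, hxa⟩ := a.2
    obtain ⟨y, hy, hyb⟩ := b.2
    show (a : H ⧸ Z) * b = b * a
    rw [← hxa, ← hyb, ← map_mul, ← map_mul]
    refine QuotientGroup.eq.2 ?_
    rw [← hZEeq]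
    refine ⟨((⟨x, hx⟩ : E) * ⟨y, hy⟩)⁻¹ * (⟨y, hy⟩ * ⟨x, hx⟩), ?_, rfl⟩
    rw [← hEx.1.2.2]
    have h := Subgroup.commutator_mem_commutator (mem_top (⟨y, hy⟩ : E)⁻¹) (mem_top (⟨x, hx⟩ : E)⁻¹)
    rw [commutatorElement_def, inv_inv, inv_inv] at h
    rw [commutator_def, mul_inv_rev, ← mul_assoc]
    exact h)⟩⟩
  have hE64 : Nat.card (E.map q) = 64 := by
    have h := card_mul_index (q.domRestrict E).ker
    rw [index_ker, MonoidHom.domRestrict_range, MonoidHom.ker_domRestrict, QuotientGroup.ker_mk',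
      Nat.card_congr (subgroupOfEquivOfLe hZlE).toEquiv, hZ2, hE7] at h
    omega
  have hn := normal_of_type hP hZ' hO' (oddCore_quotient hcore Z hZH hZ2) T2 hS (E.map q)
    (map_mono hE) hEc hE64
  have hback : (E.map q).comap q = E :=
    comap_map_eq_self (by rw [QuotientGroup.ker_mk']; exact hZlE)
  exact hback ▸ hn.comap q

end Cfsg.Agent.Lib.M24Type70
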